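/-
Certificates for the splitting of a group extension by an elementary abelian 2-group: collection in
the extension, linear conditions on the tails of lifted relations, and the resulting complement.
-/
import Mathlib

set_option autoImplicit false

namespace CfsgLib.ExtCert

variable {E : Type*} [Group E]

/-- The product of a word in lifted generators. -/
def ev (g : ℕ → E) (w : List ℕ) : E := (w.map g).prod

theorem ev_nil (g : ℕ → E) : ev g [] = 1 := rfl

theorem ev_cons (g : ℕ → E) (a : ℕ) (w : List ℕ) : ev g (a :: w) = g a * ev g w := by simp [ev]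

theorem ev_append (g : ℕ → E) (v w : List ℕ) : ev g (v ++ w) = ev g v * ev g w := by simp [ev]

/-- A product of conjugated symbols: index and conjugating word. -/
abbrev Sym := List (ℕ × List ℕ)

/-- The value of a product of conjugated symbols. -/
def sval (g t : ℕ → E) (s : Sym) : E :=
  (s.map fun e => (ev g e.2)⁻¹ * t e.1 * ev g e.2).prod

theorem sval_nil (g t : ℕ → E) : sval g t [] = 1 := rfl

theorem sval_cons (g t : ℕ → E) (e : ℕ × List ℕ) (s : Sym) :
    sval g t (e :: s) = (ev g e.2)⁻¹ * t e.1 * ev g e.2 * sval g t s := by simp [sval]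

theorem sval_mem {N : Subgroup E} [N.Normal] {g t : ℕ → E} (ht : ∀ k, t k ∈ N) :
    ∀ s : Sym, sval g t s ∈ N := by
  intro s
  induction s with
  | nil => exact one_mem N
  | cons e s ih =>
    rw [sval_cons]
    refine mul_mem ?_ ih
    simpa using Subgroup.Normal.conj_mem inferInstance _ (ht e.1) (ev g e.2)⁻¹

/-- Split a word around an occurrence of the left side of a relation. -/
def findAt (rels : List (List ℕ × List ℕ)) : List ℕ → List ℕ → Option (ℕ × List ℕ × List ℕ)
  | _, [] => none
  | pre, a :: w =>
    match rels.findIdx? (fun lr => lr.1.isPrefixOf (a :: w)) with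
    | some k => some (k, pre.reverse, (a :: w).drop (rels.getD k ([], [])).1.length)
    | none => findAt rels (a :: pre) w

/-- Rewriting by the relations, recording the symbols produced. -/
def collect (rels : List (List ℕ × List ℕ)) : ℕ → List ℕ → List ℕ × Sym
  | 0, w => (w, [])
  | fuel + 1, w =>
    match findAt rels [] w with
    | none => (w, [])
    | some (k, pre, suf) =>
      if k < rels.length ∧ w = pre ++ (rels.getD k ([], [])).1 ++ suf then
        let r := collect rels fuel (pre ++ (rels.getD k ([], [])).2 ++ suf)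
        (r.1, r.2 ++ [(k, suf)])
      else (w, [])

/-- The relations hold in `E` up to the tails `t`. -/
def Rels (rels : List (List ℕ × List ℕ)) (g t : ℕ → E) : Prop :=
  ∀ k < rels.length, ev g (rels.getD k ([], [])).1 = ev g (rels.getD k ([], [])).2 * t k

theorem collect_spec {rels : List (List ℕ × List ℕ)} {g t : ℕ → E} (h : Rels rels g t) :
    ∀ (fuel : ℕ) (w : List ℕ), ev g w = ev g (collect rels fuel w).1 * sval g t (collect rels fuel w).2 := by
  intro fuel
  induction fuel with
  | zero => intro w; simp [collect, sval_nil]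
  | succ fuel ih =>
    intro w
    rw [collect]
    split
    · simp [sval_nil]
    · next k pre suf _ =>
      split
      · next hk =>
        obtain ⟨hk, hw⟩ := hk
        have e1 := ih (pre ++ (rels.getD k ([], [])).2 ++ suf)
        have e2 : ev g w = ev g (pre ++ (rels.getD k ([], [])).2 ++ suf) * ((ev g suf)⁻¹ * t k * ev g suf) := by
          rw [hw, ev_append, ev_append, h k hk, ev_append, ev_append]; group
        rw [e2, e1]
        simp [sval, mul_assoc]
      · simp [sval_nil]

/-- The symbols produced when each generator is multiplied by an element of the kernel. -/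
def dsym : List ℕ → Sym
  | [] => []
  | a :: w => (a, w) :: dsym w

theorem ev_twist (g n : ℕ → E) : ∀ w, ev (fun j => g j * n j) w = ev g w * sval g n (dsym w) := by
  intro w
  induction w with
  | nil => simp [ev_nil, dsym, sval_nil]
  | cons a w ih => rw [ev_cons, ih, dsym, sval_cons, ev_cons]; group

/-- Substitution of words. -/
def flat (U : List (List ℕ)) (w : List ℕ) : List ℕ := w.flatMap fun i => U.getD i []

theorem ev_flat (g : ℕ → E) (U : List (List ℕ)) (w : List ℕ) :
    ev g (flat U w) = ev (fun i => ev g (U.getD i [])) w := by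
  induction w with
  | nil => rfl
  | cons a w ih => rw [ev_cons, ← ih, ← ev_append]; rfl

theorem ev_conj (G : E) (h : ℕ → E) (w : List ℕ) :
    ev (fun i => G * h i * G⁻¹) w = G * ev h w * G⁻¹ := by
  induction w with
  | nil => simp [ev_nil]
  | cons a w ih => rw [ev_cons, ih, ev_cons]; group

/-- A linear form on tuples: index and mask. -/
abbrev Form := List (ℕ × ℕ)

/-- The value of a form. -/
def fval (pair : ℕ → E → ZMod 2) (t : ℕ → E) (f : Form) : ZMod 2 :=
  (f.map fun e => pair e.2 (t e.1)).sum

theorem fval_append (pair : ℕ → E → ZMod 2) (t : ℕ → E) (f f' : Form) :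
    fval pair t (f ++ f') = fval pair t f + fval pair t f' := by simp [fval]

/-- The combined mask at an index. -/
def accum (k : ℕ) : Form → ℕ
  | [] => 0
  | e :: f => (if e.1 = k then e.2 else 0) ^^^ accum k f

/-- Evaluate a number before using it. -/
def forceN {β : Type} (m : ℕ) (k : ℕ → β) : β :=
  match m with
  | 0 => k 0
  | n + 1 => k (n + 1)

theorem forceN_eq {β : Type} (m : ℕ) (k : ℕ → β) : forceN m k = k m := by cases m <;> rfl

/-- All masks of a form packed into one number. -/
def packF : Form → ℕ
  | [] => 0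
  | e :: f => forceN (packF f) fun r => (e.2 <<< (24 * e.1)) ^^^ r

/-- Sufficient test for a form to vanish identically. -/
def formZero (z : ℕ → Bool) (n : ℕ) (f : Form) : Bool :=
  f.all (fun e => decide (e.1 < n) && decide (e.2 < 2 ^ 24)) &&
    forceN (packF f) fun p => (List.range n).all fun k => z ((p >>> (24 * k)) % 2 ^ 24)

theorem packF_spec (k : ℕ) : ∀ f : Form, (∀ e ∈ f, e.2 < 2 ^ 24) →
    (packF f >>> (24 * k)) % 2 ^ 24 = accum k f := by
  intro f
  induction f with
  | nil => simp [packF, accum]
  | cons e f ih =>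
    intro h
    rw [packF, forceN_eq, accum, ← ih fun x hx => h x (List.mem_cons_of_mem _ hx)]
    have he := h e List.mem_cons_self
    refine Nat.eq_of_testBit_eq fun j => ?_
    simp only [Nat.testBit_xor, Nat.testBit_mod_two_pow, Nat.testBit_shiftRight, Nat.testBit_shiftLeft]
    by_cases hj : j < 24
    · by_cases hek : e.1 = k
      · subst hek
        simp [hj]
      · have hz : (decide (24 * k + j ≥ 24 * e.1) && e.2.testBit (24 * k + j - 24 * e.1)) = false := by
          by_cases hge : 24 * k + j ≥ 24 * e.1
          · rw [Nat.testBit_lt_two_pow (he.trans_le (Nat.pow_le_pow_right (by norm_num) (by omega)))]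
            simp
          · simp [hge]
        simp [hz, hek, hj]
    · by_cases hek : e.1 = k
      · simp [hj, hek, Nat.testBit_lt_two_pow (he.trans_le (Nat.pow_le_pow_right (by norm_num) (by omega : 24 ≤ j)))]
      · simp [hj, hek]

/-- A pairing of masks with the kernel. -/
structure Pairing (N : Subgroup E) (z : ℕ → Bool) where
  pair : ℕ → E → ZMod 2
  pair_mul : ∀ m, ∀ a ∈ N, ∀ b ∈ N, pair m (a * b) = pair m a + pair m b
  pair_xor : ∀ m m', ∀ a ∈ N, pair (m ^^^ m') a = pair m a + pair m' a
  pair_zero : ∀ m, z m = true → ∀ a ∈ N, pair m a = 0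

namespace Pairing

variable {N : Subgroup E} {z : ℕ → Bool} (P : Pairing N z)

theorem pair_one (m : ℕ) : P.pair m 1 = 0 := by
  have h := P.pair_mul m 1 (one_mem N) 1 (one_mem N)
  rw [mul_one] at h
  exact (left_eq_add.mp h)

theorem pair_inv (m : ℕ) {a : E} (ha : a ∈ N) : P.pair m a⁻¹ = P.pair m a := by
  have h := P.pair_mul m a ha a⁻¹ (inv_mem ha)
  rw [mul_inv_cancel, P.pair_one] at h
  rw [eq_neg_of_add_eq_zero_right h.symm]
  exact ZMod.neg_eq_self_mod_two _

theorem pair_pow (m : ℕ) {a : E} (ha : a ∈ N) : ∀ i : ℕ, P.pair m (a ^ i) = (i : ZMod 2) * P.pair m a := by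
  intro i
  induction i with
  | zero => simp [P.pair_one]
  | succ i ih => rw [pow_succ, P.pair_mul m _ (pow_mem ha i) _ ha, ih]; push_cast; ring

theorem pair_mask_zero {a : E} (ha : a ∈ N) : P.pair 0 a = 0 := by
  have h := P.pair_xor 0 0 a ha
  rw [Nat.xor_self] at h
  exact left_eq_add.mp h

theorem fval_eq_sum {t : ℕ → E} (ht : ∀ k, t k ∈ N) (n : ℕ) : ∀ f : Form, (∀ e ∈ f, e.1 < n) →
    fval P.pair t f = ∑ k ∈ Finset.range n, P.pair (accum k f) (t k) := by
  intro f
  induction f with
  | nil => intro _; simp [fval, accum, P.pair_mask_zero (ht _)]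
  | cons e f ih =>
    intro h
    have h1 : fval P.pair t (e :: f) = P.pair e.2 (t e.1) + fval P.pair t f := by simp [fval]
    rw [h1, ih fun x hx => h x (List.mem_cons_of_mem _ hx)]
    simp only [accum]
    rw [Finset.sum_congr rfl fun k _ => P.pair_xor _ _ _ (ht k), Finset.sum_add_distrib]
    congr 1
    rw [Finset.sum_eq_single e.1 (fun b _ hb => by rw [if_neg (Ne.symm hb), P.pair_mask_zero (ht b)])
      (fun hn => absurd (Finset.mem_range.mpr (h e List.mem_cons_self)) hn), if_pos rfl]

theorem fval_formZero {t : ℕ → E} (ht : ∀ k, t k ∈ N) {n : ℕ} {f : Form} (h : formZero z n f = true) :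
    fval P.pair t f = 0 := by
  simp only [formZero, forceN_eq, Bool.and_eq_true, List.all_eq_true, decide_eq_true_eq, List.mem_range] at h
  rw [P.fval_eq_sum ht n f fun e he => (h.1 e he).1]
  refine Finset.sum_eq_zero fun k hk => P.pair_zero _ ?_ _ (ht k)
  rw [← packF_spec k f fun e he => (h.1 e he).2]
  exact h.2 k (Finset.mem_range.mp hk)

/-- Transport of masks along conjugation by the lifted generators. -/
def Moves (g : ℕ → E) (mv : ℕ → ℕ → ℕ) : Prop :=
  ∀ j m, ∀ a ∈ N, P.pair m ((g j)⁻¹ * a * g j) = P.pair (mv j m) a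

end Pairing

/-- A mask moved along a word. -/
def mvW (mv : ℕ → ℕ → ℕ) (w : List ℕ) (m : ℕ) : ℕ := w.foldr mv m

/-- The form obtained from a product of symbols and a mask. -/
def pull (mv : ℕ → ℕ → ℕ) (s : Sym) (m : ℕ) : Form := s.map fun e => (e.1, mvW mv e.2 m)

theorem pull_append (mv : ℕ → ℕ → ℕ) (s s' : Sym) (m : ℕ) :
    pull mv (s ++ s') m = pull mv s m ++ pull mv s' m := by simp [pull]

namespace Pairing

variable {N : Subgroup E} {z : ℕ → Bool} {P : Pairing N z} [N.Normal]
variable {g : ℕ → E} {mv : ℕ → ℕ → ℕ}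

theorem pair_conj_word (hmv : P.Moves g mv) (m : ℕ) :
    ∀ (w : List ℕ) (a : E), a ∈ N → P.pair m ((ev g w)⁻¹ * a * ev g w) = P.pair (mvW mv w m) a := by
  intro w
  induction w with
  | nil => intro a _; simp [ev_nil, mvW]
  | cons b w ih =>
    intro a ha
    have hb : (g b)⁻¹ * a * g b ∈ N := by
      simpa using Subgroup.Normal.conj_mem inferInstance _ ha (g b)⁻¹
    rw [ev_cons, show (g b * ev g w)⁻¹ * a * (g b * ev g w) = (ev g w)⁻¹ * ((g b)⁻¹ * a * g b) * ev g w
      by group, ih _ hb, hmv b _ a ha]
    rfl

theorem pair_sval (hmv : P.Moves g mv) {t : ℕ → E} (ht : ∀ k, t k ∈ N) (m : ℕ) :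
    ∀ s : Sym, P.pair m (sval g t s) = fval P.pair t (pull mv s m) := by
  intro s
  induction s with
  | nil => simp [sval_nil, P.pair_one, pull, fval]
  | cons e s ih =>
    have he : (ev g e.2)⁻¹ * t e.1 * ev g e.2 ∈ N := by
      simpa using Subgroup.Normal.conj_mem inferInstance _ (ht e.1) (ev g e.2)⁻¹
    rw [sval_cons, P.pair_mul m _ he _ (sval_mem ht s), ih, pair_conj_word hmv m _ _ (ht e.1)]
    simp [pull, fval]

end Pairing

section Consistency

variable {N : Subgroup E} {z : ℕ → Bool} {P : Pairing N z} [N.Normal]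
variable {g t : ℕ → E} {mv : ℕ → ℕ → ℕ}

/-- The form coming from two ways of collecting one product. -/
def consForm (rels : List (List ℕ × List ℕ)) (mv : ℕ → ℕ → ℕ) (fuel : ℕ) (x : List ℕ) (k m : ℕ) :
    Option Form :=
  let A := collect rels fuel (x ++ (rels.getD k ([], [])).1)
  let B := collect rels fuel (x ++ (rels.getD k ([], [])).2)
  if A.1 = B.1 ∧ k < rels.length then some (pull mv A.2 m ++ pull mv B.2 m ++ [(k, m)]) else none

theorem consForm_spec {rels : List (List ℕ × List ℕ)} (h : Rels rels g t) (ht : ∀ k, t k ∈ N)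
    (hmv : P.Moves g mv) {fuel : ℕ} {x : List ℕ} {k m : ℕ} {f : Form}
    (hf : consForm rels mv fuel x k m = some f) : fval P.pair t f = 0 := by
  rw [consForm] at hf
  split at hf
  case isFalse => simp at hf
  case isTrue hc =>
    obtain ⟨hAB, hk⟩ := hc
    cases hf
    have eA := collect_spec h fuel (x ++ (rels.getD k ([], [])).1)
    have eB := collect_spec h fuel (x ++ (rels.getD k ([], [])).2)
    rw [ev_append, h k hk, ← mul_assoc, ← ev_append, eB, hAB, mul_assoc] at eA
    have e := congrArg (P.pair m) (mul_left_cancel eA)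
    rw [P.pair_mul m _ (sval_mem ht _) _ (ht k), Pairing.pair_sval hmv ht, Pairing.pair_sval hmv ht] at e
    have h1 : fval P.pair t [(k, m)] = P.pair m (t k) := by simp [fval]
    rw [fval_append, fval_append, h1]
    linear_combination e + CharTwo.add_self_eq_zero (fval P.pair t (pull mv (collect rels fuel (x ++ (rels.getD k ([], [])).1)).2 m))

end Consistency

section Fusion

variable {N : Subgroup E} {z : ℕ → Bool} {P : Pairing N z} [N.Normal]
variable {g t : ℕ → E} {mv : ℕ → ℕ → ℕ}

/-- The form of one relation of a subgroup and a conjugate of it, with the form in the twisting elements. -/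
def fusOne (rels : List (List ℕ × List ℕ)) (mv : ℕ → ℕ → ℕ) (mG : ℕ → ℕ) (fuel : ℕ)
    (U U' : List (List ℕ)) (lr : List ℕ × List ℕ) (m : ℕ) : Option (Form × Form) :=
  let A := collect rels fuel (flat U lr.1)
  let B := collect rels fuel (flat U lr.2)
  let A' := collect rels fuel (flat U' lr.1)
  let B' := collect rels fuel (flat U' lr.2)
  if A.1 = B.1 ∧ A'.1 = B'.1 then
    some (pull mv (A'.2 ++ B'.2) m ++ pull mv (A.2 ++ B.2) (mG m),
      pull (fun i m => mvW mv (U'.getD i []) m) (dsym lr.1 ++ dsym lr.2) m)
  else none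

theorem fusOne_spec {rels : List (List ℕ × List ℕ)} (h : Rels rels g t) (ht : ∀ k, t k ∈ N)
    (hmv : P.Moves g mv) {G : E} {mG : ℕ → ℕ}
    (hG : ∀ m, ∀ a ∈ N, P.pair m (G * a * G⁻¹) = P.pair (mG m) a) {U U' : List (List ℕ)}
    {c : ℕ → E} (hc : ∀ i, c i ∈ N) {lr : List ℕ × List ℕ}
    (hU : ∀ i ∈ lr.1 ++ lr.2, ev g (U'.getD i []) * c i = G * ev g (U.getD i []) * G⁻¹)
    {fuel m : ℕ} {F C : Form}
    (hf : fusOne rels mv mG fuel U U' lr m = some (F, C)) :
    fval P.pair t F + fval P.pair c C = 0 := by
  rw [fusOne] at hf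
  split at hf
  case isFalse => simp at hf
  case isTrue hc' =>
    obtain ⟨hAB, hAB'⟩ := hc'
    cases hf
    have eA := collect_spec h fuel (flat U lr.1)
    have eB := collect_spec h fuel (flat U lr.2)
    have eA' := collect_spec h fuel (flat U' lr.1)
    have eB' := collect_spec h fuel (flat U' lr.2)
    rw [ev_flat] at eA eB eA' eB'
    set A := collect rels fuel (flat U lr.1)
    set B := collect rels fuel (flat U lr.2)
    set A' := collect rels fuel (flat U' lr.1)
    set B' := collect rels fuel (flat U' lr.2)
    set h1 : ℕ → E := fun i => ev g (U'.getD i [])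
    have hmv' : P.Moves h1 (fun i m => mvW mv (U'.getD i []) m) := fun j m a ha =>
      Pairing.pair_conj_word hmv m _ a ha
    have key : ∀ w : List ℕ, (∀ i ∈ w, i ∈ lr.1 ++ lr.2) →
        G * ev (fun i => ev g (U.getD i [])) w * G⁻¹ = ev h1 w * sval h1 c (dsym w) := by
      intro w hw
      rw [← ev_conj, ← ev_twist]
      exact congrArg List.prod (List.map_congr_left fun i hi => (hU i (hw i hi)).symm)
    have k1 := key lr.1 fun i hi => List.mem_append_left _ hi
    have k2 := key lr.2 fun i hi => List.mem_append_right _ hi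
    rw [eA, eA'] at k1
    rw [eB, eB', ← hAB, ← hAB'] at k2
    have k3 : G * ((sval g t B.2)⁻¹ * sval g t A.2) * G⁻¹ =
        (sval g t B'.2 * sval h1 c (dsym lr.2))⁻¹ * (sval g t A'.2 * sval h1 c (dsym lr.1)) := by
      calc G * ((sval g t B.2)⁻¹ * sval g t A.2) * G⁻¹
          = (G * (ev g A.1 * sval g t B.2) * G⁻¹)⁻¹ * (G * (ev g A.1 * sval g t A.2) * G⁻¹) := by group
        _ = _ := by rw [k1, k2]; group
    have e := congrArg (P.pair m) k3
    rw [hG m _ (mul_mem (inv_mem (sval_mem ht _)) (sval_mem ht _)),
      P.pair_mul _ _ (inv_mem (sval_mem ht _)) _ (sval_mem ht _), P.pair_inv _ (sval_mem ht _),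
      P.pair_mul m _ (inv_mem (mul_mem (sval_mem ht _) (sval_mem hc _))) _ (mul_mem (sval_mem ht _) (sval_mem hc _)),
      P.pair_inv _ (mul_mem (sval_mem ht _) (sval_mem hc _)),
      P.pair_mul m _ (sval_mem ht _) _ (sval_mem hc _), P.pair_mul m _ (sval_mem ht _) _ (sval_mem hc _),
      Pairing.pair_sval hmv ht, Pairing.pair_sval hmv ht, Pairing.pair_sval hmv ht, Pairing.pair_sval hmv ht,
      Pairing.pair_sval hmv' hc, Pairing.pair_sval hmv' hc] at e
    simp only [fval_append, pull_append]
    revert e
    generalize fval P.pair t (pull mv A.2 (mG m)) = a0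
    generalize fval P.pair t (pull mv B.2 (mG m)) = b0
    generalize fval P.pair t (pull mv A'.2 m) = a
    generalize fval P.pair t (pull mv B'.2 m) = b
    generalize fval P.pair c (pull _ (dsym lr.1) m) = x
    generalize fval P.pair c (pull _ (dsym lr.2) m) = y
    intro e
    have h0 : ∀ q : ZMod 2, q + q = 0 := CharTwo.add_self_eq_zero
    linear_combination e + h0 a + h0 b + h0 x + h0 y

/-- The total form of a fusion certificate: one mask for each relation of the subgroup. -/
def fusForm (rels : List (List ℕ × List ℕ)) (mv : ℕ → ℕ → ℕ) (mG : ℕ → ℕ) (z : ℕ → Bool) (fuel : ℕ)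
    (U U' : List (List ℕ)) (items : List ((List ℕ × List ℕ) × ℕ)) : Option Form :=
  match items.mapM fun it => fusOne rels mv mG fuel U U' it.1 it.2 with
  | none => none
  | some l => if formZero z U.length (l.flatMap (·.2)) then some (l.flatMap (·.1)) else none

theorem fusForm_spec {rels : List (List ℕ × List ℕ)} (h : Rels rels g t) (ht : ∀ k, t k ∈ N)
    (hmv : P.Moves g mv) {G : E} {mG : ℕ → ℕ}
    (hG : ∀ m, ∀ a ∈ N, P.pair m (G * a * G⁻¹) = P.pair (mG m) a) {U U' : List (List ℕ)}
    {c : ℕ → E} (hc : ∀ i, c i ∈ N)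
    (hU : ∀ i, ev g (U'.getD i []) * c i = G * ev g (U.getD i []) * G⁻¹)
    {fuel : ℕ} {items : List ((List ℕ × List ℕ) × ℕ)} {f : Form}
    (hf : fusForm rels mv mG z fuel U U' items = some f) : fval P.pair t f = 0 := by
  rw [fusForm] at hf
  split at hf
  · simp at hf
  · next l hl =>
    split at hf
    case isFalse => simp at hf
    case isTrue hz =>
      cases hf
      suffices fval P.pair t (l.flatMap (·.1)) + fval P.pair c (l.flatMap (·.2)) = 0 by
        rwa [P.fval_formZero hc hz, add_zero] at this
      clear hz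
      induction items generalizing l with
      | nil => simp at hl; subst hl; simp [fval]
      | cons it items ih =>
        rw [List.mapM_cons] at hl
        simp only [Option.bind_eq_bind, Option.bind_eq_some_iff] at hl
        obtain ⟨⟨F, C⟩, h1, l', h2, h3⟩ := hl
        obtain rfl : (F, C) :: l' = l := by simpa using h3
        simp only [List.flatMap_cons, fval_append]
        have := fusOne_spec h ht hmv hG hc (fun i _ => hU i) h1
        have := ih l' h2
        linear_combination (fusOne_spec h ht hmv hG hc (fun i _ => hU i) h1) + this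

end Fusion

section Correction

variable {N : Subgroup E} {z : ℕ → Bool} (P : Pairing N z)

/-- The correcting elements: products of basis elements raised to values of forms. -/
def corr (B : ℕ → E) (t : ℕ → E) (coef : List (List (ℕ × Form))) (j : ℕ) : E :=
  ((coef.getD j []).map fun cf => B cf.1 ^ (fval P.pair t cf.2).val).prod

/-- Forms in the correcting elements as forms in the tails. -/
def pullCorr (bp : ℕ → ℕ → Bool) (coef : List (List (ℕ × Form))) (f : Form) : Form :=
  f.flatMap fun e => forceN e.2 fun m => (coef.getD e.1 []).flatMap fun cf => if bp m cf.1 then cf.2 else []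

theorem corr_mem {B : ℕ → E} (hB : ∀ c, B c ∈ N) (t : ℕ → E) (coef : List (List (ℕ × Form))) (j : ℕ) :
    corr P B t coef j ∈ N :=
  list_prod_mem fun x hx => by
    obtain ⟨cf, -, rfl⟩ := List.mem_map.mp hx
    exact pow_mem (hB _) _

theorem fval_corr {B : ℕ → E} (hB : ∀ c, B c ∈ N) {bp : ℕ → ℕ → Bool}
    (hbp : ∀ m c, P.pair m (B c) = if bp m c then 1 else 0) (t : ℕ → E)
    (coef : List (List (ℕ × Form))) : ∀ f : Form,
      fval P.pair (corr P B t coef) f = fval P.pair t (pullCorr bp coef f) := by
  have hone : ∀ (m : ℕ) (l : List (ℕ × Form)),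
      P.pair m ((l.map fun cf => B cf.1 ^ (fval P.pair t cf.2).val).prod) =
        fval P.pair t (l.flatMap fun cf => if bp m cf.1 then cf.2 else []) := by
    intro m l
    induction l with
    | nil => simp [P.pair_one, fval]
    | cons cf l ih =>
      rw [List.map_cons, List.prod_cons, List.flatMap_cons, fval_append, P.pair_mul m _ (pow_mem (hB _) _) _
        (list_prod_mem fun x hx => by
          obtain ⟨cf', -, rfl⟩ := List.mem_map.mp hx
          exact pow_mem (hB _) _), ih, P.pair_pow m (hB _), hbp, ZMod.natCast_zmod_val]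
      cases bp m cf.1 <;> simp [fval]
  intro f
  induction f with
  | nil => simp [pullCorr, fval]
  | cons e f ih =>
    rw [pullCorr, List.flatMap_cons, forceN_eq, fval_append, ← hone]
    show _ = _ + fval P.pair t (pullCorr bp coef f)
    rw [← ih]
    simp [fval, corr]

variable [N.Normal]

/-- One identity: corrected tail plus selected conditions vanishes identically. -/
def identOK (rels : List (List ℕ × List ℕ)) (mv : ℕ → ℕ → ℕ) (bp : ℕ → ℕ → Bool)
    (coef : List (List (ℕ × Form))) (z : ℕ → Bool) (K : List Form) (k m : ℕ) (sel : List ℕ) : Bool :=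
  formZero z rels.length ([(k, m)] ++
    pullCorr bp coef (pull mv (dsym (rels.getD k ([], [])).1 ++ dsym (rels.getD k ([], [])).2) m) ++
    sel.flatMap fun i => K.getD i [])

theorem ident_spec {rels : List (List ℕ × List ℕ)} {g t : ℕ → E} {mv : ℕ → ℕ → ℕ}
    (h : Rels rels g t) (ht : ∀ k, t k ∈ N) (hmv : P.Moves g mv) {B : ℕ → E} (hB : ∀ c, B c ∈ N)
    {bp : ℕ → ℕ → Bool} (hbp : ∀ m c, P.pair m (B c) = if bp m c then 1 else 0)
    {coef : List (List (ℕ × Form))} {K : List Form} (hK : ∀ f ∈ K, fval P.pair t f = 0)
    {units : List ℕ} (hsep : ∀ a ∈ N, (∀ m ∈ units, P.pair m a = 0) → a = 1)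
    {sels : List (List (List ℕ))}
    (hok : ∀ k < rels.length, ∀ i < units.length,
      identOK rels mv bp coef z K k (units.getD i 0) ((sels.getD k []).getD i []) = true) :
    ∀ k < rels.length, ev (fun j => g j * corr P B t coef j) (rels.getD k ([], [])).1 =
      ev (fun j => g j * corr P B t coef j) (rels.getD k ([], [])).2 := by
  intro k hk
  have hn := corr_mem P hB t coef
  set l := (rels.getD k ([], [])).1
  set r := (rels.getD k ([], [])).2
  have hmem : (sval g (corr P B t coef) (dsym r))⁻¹ * (t k * sval g (corr P B t coef) (dsym l)) ∈ N :=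
    mul_mem (inv_mem (sval_mem hn _)) (mul_mem (ht k) (sval_mem hn _))
  have hD : (sval g (corr P B t coef) (dsym r))⁻¹ * (t k * sval g (corr P B t coef) (dsym l)) = 1 := by
    refine hsep _ hmem fun m hm => ?_
    obtain ⟨i, hi, rfl⟩ := List.mem_iff_getElem.mp hm
    have hz := P.fval_formZero ht (hok k hk i hi)
    rw [List.getD_eq_getElem _ _ hi, fval_append, fval_append, ← fval_corr P hB hbp,
      pull_append, fval_append, ← Pairing.pair_sval hmv hn, ← Pairing.pair_sval hmv hn] at hz
    have hs : fval P.pair t (((sels.getD k []).getD i []).flatMap fun i => K.getD i []) = 0 := by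
      generalize (sels.getD k []).getD i [] = sel
      induction sel with
      | nil => simp [fval]
      | cons a sel ih =>
        rw [List.flatMap_cons, fval_append, ih, add_zero]
        rcases lt_or_ge a K.length with ha | ha
        · rw [List.getD_eq_getElem _ _ ha]; exact hK _ (List.getElem_mem _)
        · rw [List.getD_eq_default _ _ ha]; simp [fval]
    rw [hs, add_zero] at hz
    rw [P.pair_mul _ _ (inv_mem (sval_mem hn _)) _ (mul_mem (ht k) (sval_mem hn _)),
      P.pair_inv _ (sval_mem hn _), P.pair_mul _ _ (ht k) _ (sval_mem hn _)]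
    simp only [fval, List.map_cons, List.map_nil, List.sum_cons, List.sum_nil, add_zero] at hz
    linear_combination hz
  have e := h k hk
  rw [ev_twist, ev_twist, e, mul_assoc, ← inv_mul_eq_one.mp hD]

end Correction

section Closure

/-- The closure test: the listed words are closed under appending a generator. -/
def closedOK (rels : List (List ℕ × List ℕ)) (fuel ngen : ℕ) (NF : List (List ℕ)) : Bool :=
  NF.contains [] && NF.all fun x => (List.range ngen).all fun i => NF.contains (collect rels fuel (x ++ [i])).1

/-- Position of the first descent or repetition, with the index of its relation in the standard order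
of a binary polycyclic presentation on `n` generators. -/
def pcStep (n : ℕ) : List ℕ → List ℕ → Option (ℕ × List ℕ × List ℕ)
  | pre, a :: b :: w =>
    if Nat.blt a b then pcStep n (a :: pre) (b :: w)
    else if Nat.beq a b then some (a, pre.reverse, w)
    else some (n + b * (2 * n - b - 1) / 2 + (a - b - 1), pre.reverse, w)
  | _, _ => none

/-- Rewriting by the standard strategy; only the resulting word is kept. -/
def collectPC (rels : List (List ℕ × List ℕ)) (n : ℕ) : ℕ → List ℕ → List ℕ
  | 0, w => w
  | fuel + 1, w =>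
    match pcStep n [] w with
    | none => w
    | some (k, pre, suf) =>
      if k < rels.length ∧ w = pre ++ (rels.getD k ([], [])).1 ++ suf then
        collectPC rels n fuel (pre ++ (rels.getD k ([], [])).2 ++ suf)
      else w

theorem collectPC_spec {rels : List (List ℕ × List ℕ)} {g : ℕ → E} (h : Rels rels g fun _ => 1) (n : ℕ) :
    ∀ (fuel : ℕ) (w : List ℕ), ev g w = ev g (collectPC rels n fuel w) := by
  intro fuel
  induction fuel with
  | zero => intro w; rfl
  | succ fuel ih =>
    intro w
    rw [collectPC]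
    split
    · rfl
    · next k pre suf _ =>
      split
      · next hk =>
        obtain ⟨hk, hw⟩ := hk
        rw [← ih, hw, ev_append, ev_append, h k hk, mul_one, ev_append, ev_append]
      · rfl

/-- The closure test by the standard strategy. -/
def closedPC (rels : List (List ℕ × List ℕ)) (fuel ngen : ℕ) (NF : List (List ℕ)) (mem : List ℕ → Bool) : Bool :=
  NF.all fun x => (List.range ngen).all fun i => mem (collectPC rels ngen fuel (x ++ [i]))

theorem closure_subset_pc [Finite E] {rels : List (List ℕ × List ℕ)} {g : ℕ → E}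
    (h : Rels rels g fun _ => 1) {fuel ngen : ℕ} {NF : List (List ℕ)} {mem : List ℕ → Bool}
    (hnil : [] ∈ NF) (hmem : ∀ w, mem w = true → w ∈ NF)
    (hok : closedPC rels fuel ngen NF mem = true) {x : E}
    (hx : x ∈ Subgroup.closure {y | ∃ i < ngen, g i = y}) : ∃ w ∈ NF, ev g w = x := by
  simp only [closedPC, List.all_eq_true, List.mem_range] at hok
  rw [← Subgroup.mem_toSubmonoid, Subgroup.closure_toSubmonoid_of_finite] at hx
  induction hx using Submonoid.closure_induction_right with
  | one => exact ⟨[], hnil, rfl⟩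
  | mul_right a _ b hb ih =>
    obtain ⟨w, hw, rfl⟩ := ih
    obtain ⟨i, hi, rfl⟩ := hb
    refine ⟨_, hmem _ (hok w hw i hi), ?_⟩
    rw [← collectPC_spec h, ev_append]
    simp [ev]

/-- Strictly increasing below a bound. -/
def incOK (n : ℕ) : List ℕ → Bool
  | [] => true
  | a :: w => Nat.blt a n && w.all (fun b => Nat.blt a b) && incOK n w

theorem mem_sublists_of_incOK {n : ℕ} : ∀ w, incOK n w = true → w ∈ (List.range n).sublists := by
  intro w hw
  have h : w.Pairwise (· < ·) ∧ ∀ x ∈ w, x < n := by
    induction w with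
    | nil => simp
    | cons a w ih =>
      simp only [incOK, Bool.and_eq_true, List.all_eq_true, Nat.blt_eq] at hw
      obtain ⟨h1, h2⟩ := ih hw.2
      exact ⟨List.pairwise_cons.mpr ⟨hw.1.2, h1⟩, List.forall_mem_cons.mpr ⟨hw.1.1, h2⟩⟩
  rw [List.mem_sublists]
  exact List.sublist_of_subperm_of_pairwise
    (List.subperm_of_subset (h.1.imp fun hab => ne_of_lt hab) fun x hx => List.mem_range.mpr (h.2 x hx))
    h.1 (List.pairwise_lt_range)

/-- Distinctness of numbers, evaluating each once. -/
def freshOK : List ℕ → List ℕ → Bool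
  | _, [] => true
  | acc, x :: l => forceN x fun v => acc.all (fun a => !Nat.beq v a) && freshOK (v :: acc) l

theorem nodup_of_freshOK : ∀ (l acc : List ℕ), freshOK acc l = true → l.Nodup ∧ ∀ x ∈ l, x ∉ acc := by
  intro l
  induction l with
  | nil => simp
  | cons x l ih =>
    intro acc h
    simp only [freshOK, forceN_eq, Bool.and_eq_true, List.all_eq_true] at h
    obtain ⟨h1, h2⟩ := ih _ h.2
    have hx : x ∉ acc := fun hm => by
      have := h.1 x hm
      simp at this
    refine ⟨List.nodup_cons.mpr ⟨fun hm => h2 x hm List.mem_cons_self, h1⟩, ?_⟩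
    rintro y (_ | ⟨_, hy⟩)
    · exact hx
    · exact fun hm => h2 y hy (List.mem_cons_of_mem _ hm)

theorem closure_subset [Finite E] {rels : List (List ℕ × List ℕ)} {g : ℕ → E}
    (h : Rels rels g fun _ => 1) {fuel ngen : ℕ} {NF : List (List ℕ)}
    (hok : closedOK rels fuel ngen NF = true) {x : E}
    (hx : x ∈ Subgroup.closure {y | ∃ i < ngen, g i = y}) : ∃ w ∈ NF, ev g w = x := by
  simp only [closedOK, Bool.and_eq_true, List.contains_iff_mem, List.all_eq_true, List.mem_range] at hok
  have hs : ∀ s : Sym, sval g (fun _ => (1 : E)) s = 1 := fun s => by simp [sval]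
  rw [← Subgroup.mem_toSubmonoid, Subgroup.closure_toSubmonoid_of_finite] at hx
  induction hx using Submonoid.closure_induction_right with
  | one => exact ⟨[], hok.1, rfl⟩
  | mul_right a _ b hb ih =>
    obtain ⟨w, hw, rfl⟩ := ih
    obtain ⟨i, hi, rfl⟩ := hb
    refine ⟨_, hok.2 w hw i hi, ?_⟩
    have := collect_spec h fuel (w ++ [i])
    rw [hs, mul_one, ev_append] at this
    rw [← this]
    simp [ev]

end Closure

end CfsgLib.ExtCert
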