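/-
Splitting certificates for extensions whose quotient acts on the 24 points.
-/
import Cfsg.Agent.ExtCert.Basic
import Cfsg.Agent.Golay.Cert
import Cfsg.Agent.Solvable.Gaschutz

set_option autoImplicit false

namespace CfsgLib.ExtCert

open Cfsg CfsgLib.Golay

universe u

variable {E : Type*} [Group E]

/-- The position list of the product of a word. -/
def tabW (L : List (List ℕ)) (w : List ℕ) : List ℕ :=
  w.foldr (fun i r => compL (L.getD i (List.range 24)) r) (List.range 24)

theorem toList_ev {π : E →* Equiv.Perm GolayPt} {g : ℕ → E} {L : List (List ℕ)}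
    (hg : ∀ j, toList (π (g j)) = L.getD j (List.range 24)) :
    ∀ w, toList (π (ev g w)) = tabW L w := by
  intro w
  induction w with
  | nil => rw [ev_nil, map_one, toList_one]; rfl
  | cons a w ih => rw [ev_cons, map_mul, toList_mul, hg, ih]; rfl

theorem toList_injective : Function.Injective toList := by
  intro σ τ h
  refine Equiv.ext fun p => idx_injective ?_
  rw [← toList_getD_idx, ← toList_getD_idx, h]

/-- A fusion certificate: the conjugating element, two word lists and masks on relations between them. -/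
structure Fus where
  G : List ℕ
  U : List (List ℕ)
  U' : List (List ℕ)
  items : List ((List ℕ × List ℕ) × ℕ)

/-- The data of a splitting certificate. -/
structure Data where
  L : List (List ℕ)
  rels : List (List ℕ × List ℕ)
  NF : List (List ℕ)
  cons : List (List ℕ × ℕ × ℕ)
  fus : List Fus
  K : List Form
  coef : List (List (ℕ × Form))
  sels : List (List (List ℕ))

/-- The parameters describing the module. -/
structure Module' where
  z : ℕ → Bool
  mvT : List ℕ → ℕ → ℕ
  bp : ℕ → ℕ → Bool
  units : List ℕ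

/-- Bound on the number of rewriting steps. -/
def fuel : ℕ := 10000

namespace Data

variable (M : Module') (D : Data)

/-- The move of masks along a generator. -/
def mv (j m : ℕ) : ℕ := M.mvT (D.L.getD j (List.range 24)) m

/-- The relations hold for the position lists. -/
def relsOK : Bool := D.rels.all fun lr => tabW D.L lr.1 == tabW D.L lr.2

/-- Every recorded condition is a derived one. -/
def kOK : Bool :=
  let F := D.cons.map (fun c => consForm D.rels (D.mv M) fuel c.1 c.2.1 c.2.2) ++
    D.fus.map fun u => fusForm D.rels (D.mv M) (M.mvT (invL u.G)) M.z fuel u.U u.U' u.items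
  F.length == D.K.length && (F.zip D.K).all fun p =>
    match p.1 with
    | some f => formZero M.z D.rels.length (f ++ p.2)
    | none => false

/-- The conjugations recorded in the fusion certificates. -/
def fusOK : Bool := D.fus.all fun u => u.U.length == u.U'.length && (List.range u.U.length).all fun i =>
  tabW D.L (u.U'.getD i []) == compL (compL u.G (tabW D.L (u.U.getD i []))) (invL u.G)

/-- The identities which make the corrected lifts satisfy the relations exactly. -/
def identsOK : Bool := (List.range D.rels.length).all fun k => (List.range M.units.length).all fun i =>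
  identOK D.rels (D.mv M) M.bp D.coef M.z D.K k (M.units.getD i 0) ((D.sels.getD k []).getD i [])

/-- The normal forms are closed and represent different permutations. -/
def nfOK : Bool := closedOK D.rels fuel D.L.length D.NF && decide (D.NF.map (tabW D.L)).Nodup &&
  D.NF.all fun w => w.all fun i => decide (i < D.L.length)

/-- A position list as one number. -/
def keyL (l : List ℕ) : ℕ := l.foldr (fun a r => a + 25 * r) 0

/-- The test on normal forms which are the increasing words. -/
def nfIncOK : Bool := closedPC D.rels fuel D.L.length D.NF (incOK D.L.length) &&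
  D.NF == (List.range D.L.length).sublists &&
  freshOK [] (D.NF.map fun w => keyL (tabW D.L w))

/-- Either form of the test on normal forms. -/
def NFGood : Prop := [] ∈ D.NF ∧ (∀ w ∈ D.NF, ∀ i ∈ w, i < D.L.length) ∧ (D.NF.map (tabW D.L)).Nodup ∧
  ∀ {E : Type u} [Group E] [Finite E] (g : ℕ → E), Rels D.rels g (fun _ => 1) →
    ∀ x ∈ Subgroup.closure {y | ∃ i < D.L.length, g i = y}, ∃ w ∈ D.NF, ev g w = x

theorem nfGood_of_ok (h : D.nfOK = true) : NFGood.{u} D := by
  simp only [nfOK, Bool.and_eq_true, decide_eq_true_eq, List.all_eq_true] at h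
  refine ⟨?_, h.2, h.1.2, fun g hR x hx => closure_subset hR h.1.1 hx⟩
  have := h.1.1
  simp only [closedOK, Bool.and_eq_true, List.contains_iff_mem] at this
  exact this.1

theorem nfGood_of_inc (h : D.nfIncOK = true) : NFGood.{u} D := by
  simp only [nfIncOK, Bool.and_eq_true, beq_iff_eq] at h
  obtain ⟨⟨h1, h2⟩, h3⟩ := h
  have hnil : [] ∈ D.NF := h2 ▸ List.mem_sublists.mpr (List.nil_sublist _)
  refine ⟨hnil, fun w hw i hi => ?_, ?_, fun g hR x hx => ?_⟩
  · rw [h2, List.mem_sublists] at hw
    exact List.mem_range.mp (hw.subset hi)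
  · exact List.Nodup.of_map keyL (by rw [List.map_map]; exact (nodup_of_freshOK _ _ h3).1)
  · exact closure_subset_pc hR hnil (fun w hw => h2 ▸ mem_sublists_of_incOK w hw) h1 hx

end Data

variable {N : Subgroup E} [N.Normal]

/-- The tails of lifted relations. -/
def tailOf (rels : List (List ℕ × List ℕ)) (g : ℕ → E) (k : ℕ) : E :=
  (ev g (rels.getD k ([], [])).2)⁻¹ * ev g (rels.getD k ([], [])).1

theorem exists_lifts (D : Data) (π : E →* Equiv.Perm GolayPt)
    (hlift : ∀ L ∈ D.L ++ D.fus.map (·.G), ∃ x, toList (π x) = L) :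
    ∃ g : ℕ → E, ∀ j, toList (π (g j)) = D.L.getD j (List.range 24) := by
  have hex : ∀ j, ∃ x, toList (π x) = D.L.getD j (List.range 24) := by
    intro j
    rcases lt_or_ge j D.L.length with hj | hj
    · rw [List.getD_eq_getElem _ _ hj]
      exact hlift _ (List.mem_append_left _ (List.getElem_mem _))
    · rw [List.getD_eq_default _ _ hj]
      exact ⟨1, by rw [map_one, toList_one]⟩
  choose g hg using hex
  exact ⟨g, hg⟩

theorem exists_lifted_extra {E : Type u} [Group E] {N : Subgroup E} [N.Normal] [Finite E] {M : Module'} (D : Data) (P : Pairing N M.z)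
    (π : E →* Equiv.Perm GolayPt) (hker : π.ker = N)
    (hconj : ∀ x m, ∀ a ∈ N, P.pair m (x * a * x⁻¹) = P.pair (M.mvT (invL (toList (π x))) m) a)
    (B : ℕ → E) (hB : ∀ c, B c ∈ N) (hbp : ∀ m c, P.pair m (B c) = if M.bp m c then 1 else 0)
    (hsep : ∀ a ∈ N, (∀ m ∈ M.units, P.pair m a = 0) → a = 1)
    (hlift : ∀ L ∈ D.L ++ D.fus.map (·.G), ∃ x, toList (π x) = L)
    (h1 : D.relsOK = true) (h2 : D.kOK M = true) (h3 : D.fusOK = true) (extra : List Form)
    (h4 : ({D with K := D.K ++ extra} : Data).identsOK M = true) (h5 : Data.NFGood.{u} D) (g : ℕ → E)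
    (hg : ∀ j, toList (π (g j)) = D.L.getD j (List.range 24))
    (hx : ∀ f ∈ extra, fval P.pair (tailOf D.rels g) f = 0) :
    ∃ H : Subgroup E, H ⊓ N = ⊥ ∧ Nat.card H = D.NF.length := by
  classical
  have hmem : ∀ a, a ∈ N ↔ π a = 1 := fun a => by rw [← hker]; exact MonoidHom.mem_ker
  have hrel : ∀ k, (ev g (D.rels.getD k ([], [])).2)⁻¹ * ev g (D.rels.getD k ([], [])).1 ∈ N := by
    intro k
    rw [hmem, map_mul, map_inv, inv_mul_eq_one]
    refine (toList_injective ?_).symm
    rw [toList_ev hg, toList_ev hg]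
    rcases lt_or_ge k D.rels.length with hk | hk
    · simp only [Data.relsOK, List.all_eq_true, beq_iff_eq] at h1
      rw [List.getD_eq_getElem _ _ hk]
      exact h1 _ (List.getElem_mem _)
    · rw [List.getD_eq_default _ _ hk]
  set t : ℕ → E := fun k => (ev g (D.rels.getD k ([], [])).2)⁻¹ * ev g (D.rels.getD k ([], [])).1 with htdef
  have hR : Rels D.rels g t := fun k _ => by simp [htdef]
  have hmv : P.Moves g (D.mv M) := by
    intro j m a ha
    have h := hconj (g j)⁻¹ m a ha
    rw [inv_inv, map_inv, ← toList_inv, inv_inv, hg] at h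
    exact h
  have hK0 : ∀ f ∈ D.K, fval P.pair t f = 0 := by
    simp only [Data.kOK, Bool.and_eq_true, beq_iff_eq, List.all_eq_true] at h2
    intro f hf
    obtain ⟨i, hi, rfl⟩ := List.mem_iff_getElem.mp hf
    set F := D.cons.map (fun c => consForm D.rels (D.mv M) fuel c.1 c.2.1 c.2.2) ++
      D.fus.map fun u => fusForm D.rels (D.mv M) (M.mvT (invL u.G)) M.z fuel u.U u.U' u.items with hF
    have hiF : i < F.length := h2.1 ▸ hi
    have h := h2.2 (F[i], D.K[i]) (by rw [← List.getElem_zip (h := by simp [hiF, hi])]; exact List.getElem_mem _)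
    split at h
    case h_2 => simp at h
    case h_1 f0 hf0 =>
      have hf0' : fval P.pair t f0 = 0 := by
        have hm : some f0 ∈ F := hf0 ▸ List.getElem_mem hiF
        rw [hF, List.mem_append, List.mem_map, List.mem_map] at hm
        rcases hm with ⟨⟨x, k, m⟩, -, hc⟩ | ⟨u, hu, hc⟩
        · exact consForm_spec hR hrel hmv hc
        · obtain ⟨G, hG⟩ := hlift u.G (List.mem_append_right _ (List.mem_map.mpr ⟨u, hu, rfl⟩))
          simp only [Data.fusOK, List.all_eq_true, Bool.and_eq_true, beq_iff_eq, List.mem_range] at h3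
          obtain ⟨hlen, hperm⟩ := h3 u hu
          refine fusForm_spec (U := u.U) (U' := u.U')
            (c := fun i => (ev g (u.U'.getD i []))⁻¹ * (G * ev g (u.U.getD i []) * G⁻¹))
            hR hrel hmv (G := G) (fun m a ha => by rw [hconj G m a ha, hG]) (fun i => ?_)
            (fun i => by group) hc
          rw [hmem, map_mul, map_inv, inv_mul_eq_one]
          refine toList_injective ?_
          rw [toList_ev hg, map_mul, map_mul, map_inv, toList_mul, toList_mul, toList_inv, toList_ev hg, hG]
          rcases lt_or_ge i u.U.length with hi' | hi'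
          · exact hperm i hi'
          · rw [List.getD_eq_default _ _ hi', List.getD_eq_default _ _ (hlen ▸ hi'), ← toList_ev hg, ← hG,
              ← toList_inv, ← toList_mul, ← toList_mul]
            simp [ev_nil]
      have hz := P.fval_formZero hrel h
      rwa [fval_append, hf0', zero_add] at hz
  simp only [Data.identsOK, List.all_eq_true, List.mem_range] at h4
  have hK : ∀ f ∈ D.K ++ extra, fval P.pair t f = 0 := fun f hf => by
    rcases List.mem_append.mp hf with hf | hf
    · exact hK0 f hf
    · exact hx f hf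
  have hexact := ident_spec P (B := B) (bp := M.bp) (coef := D.coef) (sels := D.sels) hR hrel hmv hB hbp hK
    hsep h4
  set g' : ℕ → E := fun j => g j * corr P B t D.coef j with hg'
  have hR' : Rels D.rels g' fun _ => 1 := fun k hk => by rw [hexact k hk, mul_one]
  have hg'L : ∀ j, toList (π (g' j)) = D.L.getD j (List.range 24) := fun j => by
    rw [hg', map_mul, (hmem _).mp (corr_mem P hB t D.coef j), mul_one, hg]
  obtain ⟨hnil, hlt, hnd, hcl⟩ := h5
  let H : Subgroup E := Subgroup.closure {y | ∃ i < D.L.length, g' i = y}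
  have hsub : ∀ x ∈ H, ∃ w ∈ D.NF, ev g' w = x := fun x hx => hcl g' hR' x hx
  refine ⟨H, ?_, ?_⟩
  · rw [eq_bot_iff]
    rintro x ⟨hx, hxN⟩
    obtain ⟨w, hw, rfl⟩ := hsub x hx
    have ht : tabW D.L w = tabW D.L [] := by
      rw [← toList_ev hg'L, ← toList_ev hg'L, ev_nil, map_one, (hmem _).mp hxN]
    rw [Subgroup.mem_bot, List.inj_on_of_nodup_map hnd hw hnil ht, ev_nil]
  · have hge : ∀ w ∈ D.NF, ev g' w ∈ H := fun w hw => list_prod_mem fun y hy => by
      obtain ⟨i, hi, rfl⟩ := List.mem_map.mp hy
      exact Subgroup.subset_closure ⟨i, hlt w hw i hi, rfl⟩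
    have hnd' : (D.NF.map (ev g')).Nodup := by
      refine List.Nodup.of_map (fun x => toList (π x)) ?_
      rw [List.map_map, List.map_congr_left fun w _ => show ((fun x => toList (π x)) ∘ ev g') w = tabW D.L w from
        toList_ev hg'L w]
      exact hnd
    have hset : (H : Set E) = ((D.NF.map (ev g')).toFinset : Set E) := by
      ext x
      simp only [SetLike.mem_coe, List.mem_toFinset, List.mem_map]
      exact ⟨hsub x, by rintro ⟨w, hw, rfl⟩; exact hge w hw⟩
    rw [show Nat.card H = Nat.card ((H : Set E)) from rfl, hset, Nat.card_coe_set_eq, Set.ncard_coe_finset,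
      List.toFinset_card_of_nodup hnd', List.length_map]

theorem exists_lifted {E : Type u} [Group E] {N : Subgroup E} [N.Normal] [Finite E] {M : Module'} (D : Data) (P : Pairing N M.z)
    (π : E →* Equiv.Perm GolayPt) (hker : π.ker = N)
    (hconj : ∀ x m, ∀ a ∈ N, P.pair m (x * a * x⁻¹) = P.pair (M.mvT (invL (toList (π x))) m) a)
    (B : ℕ → E) (hB : ∀ c, B c ∈ N) (hbp : ∀ m c, P.pair m (B c) = if M.bp m c then 1 else 0)
    (hsep : ∀ a ∈ N, (∀ m ∈ M.units, P.pair m a = 0) → a = 1)
    (hlift : ∀ L ∈ D.L ++ D.fus.map (·.G), ∃ x, toList (π x) = L)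
    (h1 : D.relsOK = true) (h2 : D.kOK M = true) (h3 : D.fusOK = true) (h4 : D.identsOK M = true)
    (h5 : Data.NFGood.{u} D) :
    ∃ H : Subgroup E, H ⊓ N = ⊥ ∧ Nat.card H = D.NF.length := by
  obtain ⟨g, hg⟩ := exists_lifts D π hlift
  exact exists_lifted_extra D P π hker hconj B hB hbp hsep hlift h1 h2 h3 []
    (by simpa only [List.append_nil] using h4) h5 g hg (by simp)

/-- An abelian normal subgroup splits when it splits over a subgroup of coprime index. -/
theorem complement_of_partial [Finite E] [IsMulCommutative N] {H : Subgroup E} (hH : H ⊓ N = ⊥)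
    (hcop : ∀ d, d * (Nat.card H * Nat.card N) = Nat.card E → (Nat.card N).Coprime d) :
    ∃ K : Subgroup E, K ⊓ N = ⊥ ∧ K ⊔ N = ⊤ := by
  set U := H ⊔ N
  have hcard : Nat.card U = Nat.card H * Nat.card N := by
    rw [← Nat.card_prod]
    symm
    refine Nat.card_eq_of_bijective (fun p : H × N => (⟨(p.1 : E) * p.2,
      mul_mem (Subgroup.mem_sup_left p.1.2) (Subgroup.mem_sup_right p.2.2)⟩ : U)) ⟨?_, ?_⟩
    · rintro ⟨a, b⟩ ⟨a', b'⟩ h
      have h' : (a : E) * b = a' * b' := congrArg Subtype.val h
      have hx : (a' : E)⁻¹ * a ∈ H ⊓ N := by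
        refine Subgroup.mem_inf.mpr ⟨mul_mem (inv_mem a'.2) a.2, ?_⟩
        rw [show (a' : E)⁻¹ * a = (b' : E) * (b : E)⁻¹ from ?_]
        · exact mul_mem b'.2 (inv_mem b.2)
        · rw [eq_mul_inv_iff_mul_eq, mul_assoc, h']; group
      rw [hH, Subgroup.mem_bot, inv_mul_eq_one] at hx
      obtain rfl : a' = a := Subtype.ext hx
      rw [mul_left_cancel_iff] at h'
      rw [Subtype.ext h']
    · rintro ⟨x, hx⟩
      rw [← SetLike.mem_coe, Subgroup.mul_normal] at hx
      obtain ⟨a, ha, b, hb, rfl⟩ := hx
      exact ⟨(⟨a, ha⟩, ⟨b, hb⟩), rfl⟩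
  obtain ⟨K, hK⟩ := CfsgLib.Gaschutz.exists_complement (K := N) (U := U) le_sup_right
    (hcop _ (by rw [← hcard, mul_comm, U.card_mul_index])) H le_sup_left hH
    (sup_comm _ _)
  exact ⟨K, by rw [inf_comm]; exact hK.disjoint.eq_bot, by rw [sup_comm]; exact hK.sup_eq_top⟩

end CfsgLib.ExtCert
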