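/-
Certificates for the multiplier of M24: the 2-part and the 3-elements.
-/
import Cfsg.Agent.ExtCert.Cert

set_option autoImplicit false
set_option maxRecDepth 100000
set_option maxHeartbeats 4000000

namespace CfsgLib.ExtCert.TrivM24

def gensL : List (List ℕ) := [[4, 1, 6, 3, 2, 10, 0, 18, 20, 21, 23, 5, 15, 19, 14, 22, 12, 17, 9, 13, 8, 7, 16, 11], [0, 3, 2, 1, 4, 5, 6, 12, 13, 22, 10, 11, 7, 8, 17, 18, 21, 14, 15, 20, 19, 16, 9, 23], [0, 1, 10, 7, 4, 5, 23, 3, 21, 17, 2, 11, 12, 19, 14, 16, 15, 9, 20, 13, 18, 8, 22, 6], [0, 1, 2, 17, 6, 23, 4, 18, 20, 21, 10, 11, 16, 13, 14, 22, 12, 3, 7, 19, 8, 9, 15, 5], [10, 1, 11, 17, 23, 6, 5, 7, 20, 9, 0, 2, 22, 13, 14, 16, 15, 3, 18, 19, 8, 21, 12, 4], [2, 1, 0, 3, 6, 23, 4, 9, 8, 7, 11, 10, 22, 13, 14, 16, 15, 17, 21, 19, 20, 18, 12, 5], [0, 13,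 2, 3, 5, 4, 23, 9, 8, 7, 10, 11, 16, 1, 19, 22, 12, 17, 21, 14, 20, 18, 15, 6], [0, 12, 2, 7, 4, 5, 6, 3, 18, 17, 10, 11, 1, 15, 22, 13, 19, 9, 8, 16, 21, 20, 14, 23], [0, 1, 2, 8, 5, 4, 23, 21, 3, 18, 10, 11, 22, 13, 14, 16, 15, 20, 9, 19, 17, 7, 12, 6], [0, 14, 2, 17, 4, 5, 6, 9, 20, 7, 10, 11, 22, 19, 1, 16, 15, 3, 21, 13, 8, 18, 12, 23]]

def relsL : List (List ℕ × List ℕ) := [([0, 0], [5]), ([1, 1], []), ([2, 2], []), ([3, 3], []), ([4, 4], []), ([5, 5], []), ([6, 6], []), ([7, 7], []), ([8, 8], []), ([9, 9], []), ([1, 0], [0, 1]), ([2, 0], [0, 2, 8]), ([3, 0], [0, 3, 5]), ([4, 0], [0, 4]), ([5, 0], [0, 5]), ([6, 0], [0, 4, 5, 6, 9]), ([7, 0], [0, 6, 7, 8]), ([8, 0], [0, 4, 5, 8]), ([9, 0], [0, 9]), ([2, 1], [1, 2, 7]), ([3, 1], [1, 3, 9]), ([4, 1], [1, 4, 9]), ([5, 1], [1, 5]), ([6,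 1], [1, 8]), ([7, 1], [1, 7]), ([8, 1], [1, 6]), ([9, 1], [1, 9]), ([3, 2], [2, 3, 8]), ([4, 2], [2, 5]), ([5, 2], [2, 4]), ([6, 2], [2, 6, 9]), ([7, 2], [2, 7]), ([8, 2], [2, 8]), ([9, 2], [2, 9]), ([4, 3], [3, 4]), ([5, 3], [3, 5]), ([6, 3], [3, 6]), ([7, 3], [3, 6, 7, 8]), ([8, 3], [3, 8]), ([9, 3], [3, 9]), ([5, 4], [4, 5]), ([6, 4], [4, 6]), ([7, 4], [4, 7, 9]), ([8, 4], [4, 8]), ([9, 4], [4, 9]), ([6, 5], [5, 6]), ([7, 5], [5, 7, 9]), ([8, 5], [5, 8]), ([9, 5], [5, 9]), ([7, 6], [6, 7, 9]), ([8, 6], [6, 8]), ([9, 6], [6, 9]), ([8, 7], [7, 8, 9]), ([9, 7], [7, 9]), ([9, 8], [8, 9])]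

def nfL : List (List ℕ) := (List.range 10).sublists

def consL : List (List ℕ × ℕ × ℕ) := [([0], 0, 1), ([1], 0, 1), ([2], 0, 1), ([2], 1, 1), ([2], 10, 1), ([2], 11, 1), ([2], 19, 1), ([3], 0, 1), ([3], 1, 1), ([3], 10, 1), ([3], 11, 1), ([3], 19, 1), ([3], 20, 1), ([3], 27, 1), ([4], 0, 1), ([4], 2, 1), ([4], 10, 1), ([4], 11, 1), ([4], 19, 1), ([4], 20, 1), ([4], 27, 1), ([4], 28, 1), ([5], 19, 1), ([6], 0, 1), ([6], 1, 1), ([6], 2, 1), ([6], 10, 1), ([6], 11, 1), ([6], 13, 1), ([6], 15, 1), ([6], 19, 1), ([6], 20, 1), ([6], 21, 1), ([6], 23, 1), ([6], 27, 1), ([7], 0, 1), ([7], 10, 1)]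

def fusL : List Fus := [
  ⟨[4, 21, 6, 14, 0, 10, 23, 9, 15, 17, 11, 2, 19, 3, 20, 12, 1, 22, 8, 7, 13, 18, 16, 5], [[4], [3, 5, 8], [1, 7], [1], [9], [6, 8]], [[0, 2, 3, 4, 5, 7, 8, 9], [4, 6, 9], [6, 8], [1, 6, 7, 8, 9], [7], [6, 7, 8]], [(([0, 0], []), 1)]⟩,
  ⟨[4, 21, 6, 14, 0, 10, 23, 9, 15, 17, 11, 2, 19, 3, 20, 12, 1, 22, 8, 7, 13, 18, 16, 5], [[4], [3, 5, 8], [1, 7], [1], [9], [6, 8]], [[0, 2, 3, 4, 5, 7, 8, 9], [4, 6, 9], [6, 8], [1, 6, 7, 8, 9], [7], [6, 7, 8]], [(([1, 1], []), 1)]⟩,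
  ⟨[4, 21, 6, 14, 0, 10, 23, 9, 15, 17, 11, 2, 19, 3, 20, 12, 1, 22, 8, 7, 13, 18, 16, 5], [[4], [3, 5, 8], [1, 7], [1], [9], [6, 8]], [[0, 2, 3, 4, 5, 7, 8, 9], [4, 6, 9], [6, 8], [1, 6, 7, 8, 9], [7], [6, 7, 8]], [(([2, 2], []), 1)]⟩,
  ⟨[4, 21, 6, 14, 0, 10, 23, 9, 15, 17, 11, 2, 19, 3, 20, 12, 1, 22, 8, 7, 13, 18, 16, 5], [[4], [3, 5, 8], [1, 7], [1], [9], [6, 8]], [[0, 2, 3, 4, 5, 7, 8, 9], [4, 6, 9], [6, 8], [1, 6, 7, 8, 9], [7], [6, 7, 8]], [(([4, 4], []), 1)]⟩,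
  ⟨[4, 21, 6, 14, 0, 10, 23, 9, 15, 17, 11, 2, 19, 3, 20, 12, 1, 22, 8, 7, 13, 18, 16, 5], [[4], [3, 5, 8], [1, 7], [1], [9], [6, 8]], [[0, 2, 3, 4, 5, 7, 8, 9], [4, 6, 9], [6, 8], [1, 6, 7, 8, 9], [7], [6, 7, 8]], [(([1, 0], [0, 1]), 1)]⟩,
  ⟨[4, 21, 6, 14, 0, 10, 23, 9, 15, 17, 11, 2, 19, 3, 20, 12, 1, 22, 8, 7, 13, 18, 16, 5], [[4], [3, 5, 8], [1, 7], [1], [9], [6, 8]], [[0, 2, 3, 4, 5, 7, 8, 9], [4, 6, 9], [6, 8], [1, 6, 7, 8, 9], [7], [6, 7, 8]], [(([2, 0], [0, 2]), 1)]⟩,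
  ⟨[4, 21, 6, 14, 0, 10, 23, 9, 15, 17, 11, 2, 19, 3, 20, 12, 1, 22, 8, 7, 13, 18, 16, 5], [[4], [3, 5, 8], [1, 7], [1], [9], [6, 8]], [[0, 2, 3, 4, 5, 7, 8, 9], [4, 6, 9], [6, 8], [1, 6, 7, 8, 9], [7], [6, 7, 8]], [(([2, 1], [1, 2]), 1)]⟩,
  ⟨[23, 2, 16, 14, 5, 15, 6, 11, 1, 21, 12, 4, 13, 10, 9, 19, 20, 3, 0, 18, 8, 7, 17, 22], [[3, 4, 5, 8], [6, 8], [1, 7]], [[3, 8, 9], [4, 5, 8, 9], [3, 4, 6, 9]], [(([0, 0], []), 1)]⟩,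
  ⟨[23, 2, 16, 14, 5, 15, 6, 11, 1, 21, 12, 4, 13, 10, 9, 19, 20, 3, 0, 18, 8, 7, 17, 22], [[3, 4, 5, 8], [6, 8], [1, 7]], [[3, 8, 9], [4, 5, 8, 9], [3, 4, 6, 9]], [(([2, 2], []), 1)]⟩,
  ⟨[2, 7, 23, 21, 10, 0, 11, 22, 20, 8, 4, 5, 15, 3, 19, 13, 9, 1, 14, 16, 12, 18, 17, 6], [[0, 2, 3, 5], [1, 6, 8], [1, 7], [1], [6, 7, 8]], [[0, 3, 9], [6, 7, 8], [1, 9], [6, 8, 9], [9]], [(([0, 0], []), 1)]⟩,
  ⟨[2, 7, 23, 21, 10, 0, 11, 22, 20, 8, 4, 5, 15, 3, 19, 13, 9, 1, 14, 16, 12, 18, 17, 6], [[0, 2, 3, 5], [1, 6, 8], [1, 7], [1], [6, 7, 8]], [[0, 3, 9], [6, 7, 8], [1, 9], [6, 8, 9], [9]], [(([2, 0], [0, 2, 4]), 1), (([3, 0], [0, 3, 4]), 1)]⟩,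
  ⟨[11, 9, 7, 22, 21, 1, 10, 23, 0, 6, 19, 4, 3, 20, 18, 13, 14, 8, 17, 16, 2, 15, 12, 5], [[0, 3, 5, 9], [2, 6, 7]], [[3, 5, 6, 9], [1, 6, 7, 8]], [(([1, 1], []), 1)]⟩]

def kL : List Form := [[(14, 1)], [(22, 1)], [(4, 1), (8, 1), (17, 1), (29, 1), (43, 1), (47, 1)], [(7, 1), (24, 1)], [(8, 1), (16, 1), (25, 1), (49, 1), (50, 1), (52, 1), (54, 1)], [(8, 1), (32, 1)], [(7, 1), (31, 1)], [(5, 1), (14, 1), (35, 1)], [(9, 1), (26, 1)], [(18, 1), (22, 1), (48, 1)], [(5, 1), (17, 1), (29, 1), (38, 1), (40, 1)], [(6, 1), (25, 1), (33, 1), (37, 1), (49, 1), (50, 1), (51, 1), (52, 1), (53, 1), (54, 1)], [(9, 1), (39, 1)], [(8, 1), (38, 1)], [(40, 1)], [(28, 1), (29, 1)], [(18, 1)], [(13, 1), (14, 1), (47, 1)], [(21, 1), (22, 1), (33, 1), (46, 1), (53, 1)], [(39, 1), (44, 1)], [(34, 1), (35, 1), (47,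 1)], [(4, 1), (5, 1)], [(9, 1), (21, 1), (22, 1), (42, 1)], [(4, 1), (5, 1), (9, 1), (13, 1), (14, 1), (18, 1), (40, 1), (45, 1)], [(23, 1), (25, 1)], [(9, 1), (33, 1)], [(9, 1), (15, 1), (17, 1), (21, 1), (22, 1), (26, 1), (48, 1), (54, 1)], [(18, 1), (28, 1), (29, 1), (33, 1), (40, 1), (43, 1), (47, 1), (50, 1)], [(40, 1), (44, 1)], [(4, 1), (5, 1), (9, 1), (40, 1), (41, 1), (44, 1), (45, 1), (48, 1), (51, 1)], [(26, 1), (30, 1), (32, 1), (52, 1)], [(36, 1), (38, 1), (54, 1)], [(41, 1), (43, 1), (54, 1)], [(6, 1), (8, 1)], [(39, 1), (50, 1), (54, 1)], [(4, 1), (5, 1), (6, 1), (8, 1), (9, 1), (15, 1), (17, 1), (40, 1), (42, 1), (43, 1), (44, 1), (47, 1), (51, 1), (53, 1)], [(9, 1), (23, 1), (25, 1), (49, 1), (50, 1), (51, 1), (52, 1), (54, 1)], [(0, 1), (2, 1), (3, 1), (4, 1), (6, 1), (7,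 1), (8, 1), (9, 1), (11, 1), (12, 1), (13, 1), (14, 1), (16, 1), (17, 1), (18, 1), (27, 1), (28, 1), (30, 1), (31, 1), (32, 1), (35, 1), (36, 1), (37, 1), (38, 1), (40, 1), (41, 1), (43, 1), (44, 1), (45, 1), (48, 1), (52, 1), (53, 1), (54, 1)], [(3, 1), (4, 1), (5, 1), (6, 1), (8, 1), (9, 1), (35, 1), (38, 1), (41, 1), (44, 1), (47, 1), (51, 1)], [(1, 1), (6, 1), (7, 1), (8, 1), (24, 1), (50, 1)], [(7, 1), (9, 1)], [(4, 1), (13, 1), (15, 1), (18, 1), (29, 1), (30, 1), (36, 1), (39, 1), (41, 1), (42, 1), (45, 1), (48, 1), (49, 1), (50, 1), (53, 1), (54, 1)], [(4, 1), (5, 1), (9, 1), (15, 1), (17, 1), (21, 1), (30, 1), (32, 1), (33, 1), (36, 1), (38, 1), (40, 1), (42, 1), (43, 1), (44, 1), (47, 1), (48, 1), (49, 1), (50, 1), (51, 1), (52, 1), (53, 1)], [(8, 1), (20, 1), (22, 1), (25, 1), (37,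 1), (41, 1), (43, 1), (45, 1), (46, 1), (47, 1), (48, 1), (50, 1), (53, 1), (54, 1)], [(4, 1), (5, 1), (9, 1), (34, 1), (35, 1), (39, 1), (40, 1), (43, 1), (47, 1), (54, 1)], [(1, 1), (3, 1), (4, 1), (6, 1), (7, 1), (9, 1), (24, 1), (34, 1), (36, 1), (39, 1), (41, 1), (44, 1), (51, 1)], [(2, 1), (5, 1), (8, 1), (9, 1), (11, 1), (14, 1), (18, 1), (27, 1), (28, 1), (29, 1), (32, 1), (34, 1), (38, 1), (39, 1), (47, 1)], [(4, 1), (5, 1), (6, 1), (8, 1), (10, 1), (15, 1), (16, 1), (17, 1), (20, 1), (26, 1), (30, 1), (31, 1), (32, 1), (37, 1), (40, 1), (41, 1), (44, 1), (45, 1), (46, 1), (49, 1), (52, 1), (53, 1)], [(1, 1), (2, 1), (8, 1), (9, 1), (23, 1), (24, 1), (25, 1), (30, 1), (31, 1), (49, 1)]]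

def coefL : List (List (ℕ × Form)) := [[], [], [], [], [(0, [(12, 1), (29, 1)])], [(0, [(12, 1)])], [(0, [(27, 1), (37, 1)])], [(0, [(19, 1)])], [(0, [(27, 1)])], [(0, [(52, 1)])]]

def selsL : List (List (List ℕ)) := [[[0, 2, 4, 6, 7, 10, 11, 15, 24, 27, 28, 32, 34, 35, 36, 37, 38, 41, 44, 46]], [[2, 3, 10, 12, 13, 14, 15, 16, 19, 21, 25, 27, 28, 33, 39]], [[1, 2, 5, 6, 8, 9, 10, 12, 13, 14, 17, 19, 21, 23, 29, 30, 32, 33, 36, 39, 48]], [[0, 1, 7, 9, 12, 13, 14, 17, 19, 20, 21, 23, 28, 29, 31, 34, 39, 45]], [[0, 1, 5, 8, 9, 10, 14, 15, 19, 21, 23, 24, 25, 27, 30, 32, 35, 36, 38, 39, 41, 44, 45]], [[0, 1, 5, 8, 9, 10, 14, 15, 19, 23, 24, 25, 27, 30, 32, 35, 36, 38, 39, 41, 44, 45]], [[0, 1, 5, 8, 9, 10, 14, 15, 19, 20, 23, 24, 25, 27, 30, 31, 32, 34, 35, 36, 41, 44]], [[12, 14, 19, 28, 40]],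 [[0, 1, 5, 8, 9, 10, 14, 15, 19, 20, 23, 24, 25, 27, 30, 31, 32, 33, 34, 35, 36, 41, 44]], [[12, 14, 19, 28]], [[4, 6, 14, 16, 17, 21, 23, 24, 25, 26, 29, 31, 32, 35, 36, 40, 42, 43, 47]], [[0, 2, 5, 6, 7, 16, 17, 21, 24, 25, 27, 29, 31, 34, 35, 39, 41, 44, 46, 48]], [[]], [[0, 15, 16, 17, 20, 21, 25, 27, 34, 44]], [[0]], [[2, 9, 12, 17, 19, 20, 21, 23, 24, 25, 26, 29, 30, 32, 34, 35, 36, 38, 39, 42, 45]], [[1, 4, 8, 9, 11, 15, 19, 21, 22, 26, 27, 34, 35]], [[10, 13, 14, 20, 31, 33, 34, 38, 39, 45]], [[16]], [[]], [[1, 2, 9, 10, 11, 12, 13, 17, 18, 21, 22, 23, 25, 26, 28, 30, 31, 32, 33, 34, 42, 43]], [[8, 14, 15, 17, 19, 23, 24, 27, 29, 30, 31, 32, 33, 34, 35, 36, 42]], [[1]], [[0, 1, 5, 9, 10, 11, 15, 16, 17, 19, 20, 21, 22, 24, 26, 27, 29, 30, 31, 33, 34, 41, 44]], [[3, 12, 14, 19, 28,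 40]], [[0, 1, 5, 9, 10, 11, 15, 16, 17, 19, 20, 21, 22, 26, 27, 29, 30, 31, 33, 34, 41, 44]], [[8, 12, 14, 19, 28]], [[]], [[15]], [[]], [[0, 1, 9, 10, 12, 15, 20, 23, 24, 25, 27, 28, 31, 32, 33, 34, 35, 36, 41, 44]], [[6, 12, 14, 19, 28, 40]], [[0, 1, 8, 9, 10, 14, 15, 19, 20, 23, 24, 25, 27, 30, 31, 32, 33, 34, 35, 36, 41, 44]], [[12, 14, 19, 25, 28]], [[1, 5, 7, 8, 9, 10, 14, 16, 19, 21, 23, 24, 30, 32, 34, 35, 36, 38, 39, 41, 45]], [[1, 5, 7, 8, 9, 10, 14, 15, 19, 23, 24, 25, 27, 30, 32, 35, 36, 38, 39, 41, 44, 45]], [[0, 1, 2, 5, 8, 9, 12, 14, 16, 19, 20, 21, 23, 24, 30, 32, 33, 35, 36, 41, 44]], [[]], [[0, 1, 5, 8, 9, 10, 13, 14, 15, 19, 20, 23, 24, 25, 27, 30, 31, 32, 33, 34, 35, 36, 41, 44]], [[14, 19, 28]], [[14]], [[12, 14, 20, 21, 32, 44]], [[1, 8, 12, 15, 17, 22, 23, 24, 27, 28,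 29, 30, 31, 32, 33, 34, 35, 36, 42]], [[2, 10, 13, 14, 15, 16, 20, 25, 27, 34, 44]], [[14, 28]], [[12, 15, 17, 19, 20, 23, 25, 27, 28, 34, 44]], [[1, 12, 14, 15, 16, 18, 21, 22, 24, 25, 26, 27, 28, 30, 31, 34, 36, 42]], [[15, 16, 20, 21, 25, 27, 34, 44]], [[1, 9, 16]], [[1, 9, 15, 16, 17, 23, 24, 25, 27, 28, 29, 32, 36]], [[2, 10, 12, 13, 14, 15, 16, 19, 21, 25, 27, 28]], [[1, 9, 12, 15, 16, 17, 23, 25, 27, 28, 29, 32, 34]], [[]], [[8, 14, 16, 17, 21, 22, 23, 26, 29, 32, 33, 35]], [[2, 10, 12, 13, 15, 16, 21, 25, 27, 34]]]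

/-- The certificate. -/
def data : Data := ⟨gensL, relsL, nfL, consL, fusL, kL, coefL, selsL⟩

/-- Generators of a Sylow 3-subgroup and two elements normalising it. -/
def threeL : List (List ℕ) := [[2, 4, 3, 0, 12, 5, 8, 7, 18, 9, 10, 23, 1, 13, 20, 11, 16, 22, 6, 14, 19, 17, 21, 15], [1, 6, 2, 18, 4, 11, 0, 23, 8, 16, 15, 17, 3, 9, 14, 22, 13, 5, 12, 19, 20, 7, 10, 21], [12, 3, 4, 1, 2, 5, 18, 10, 8, 9, 7, 11, 0, 13, 19, 23, 16, 17, 6, 14, 20, 22, 21, 15], [1, 0, 4, 12, 2, 5, 6, 10, 8, 9, 7, 17, 3, 16, 14, 21, 13, 11, 18, 19, 20, 15, 23, 22]]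

end CfsgLib.ExtCert.TrivM24
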