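/-
The normal forms of the Sylow 2-subgroup certificate for the largest Mathieu group are closed.
-/
import Cfsg.Agent.ExtCert.TrivM24Data

set_option autoImplicit false
set_option maxRecDepth 100000

namespace CfsgLib.ExtCert.TrivM24

theorem closed_ok : closedPC data.rels fuel data.L.length data.NF (incOK data.L.length) = true := by
  decide +kernel

end CfsgLib.ExtCert.TrivM24
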