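/-
The normal forms of the Sylow 2-subgroup certificate for the largest Mathieu group are distinct.
-/
import Cfsg.Agent.ExtCert.TrivM24Data

set_option autoImplicit false
set_option maxRecDepth 100000

namespace CfsgLib.ExtCert.TrivM24

theorem keys_ok : freshOK [] (data.NF.map fun w => Data.keyL (tabW data.L w)) = true := by decide +kernel

end CfsgLib.ExtCert.TrivM24
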