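/-
Central extensions by a group of order two of permutation groups on the 24 points.
-/
import Cfsg.Agent.ExtCert.Cert
import Cfsg.Agent.Multiplier.Reduce

set_option autoImplicit false

namespace CfsgLib.ExtCert

open Cfsg CfsgLib.Golay

/-- The trivial module of order two. -/
def trivModule : Module' where
  z := fun m => m % 2 == 0
  mvT := fun _ m => m
  bp := fun m _ => m % 2 == 1
  units := [1]

variable {K : Subgroup (Equiv.Perm GolayPt)}

/-- The lifted partial complement for a central kernel of order two. -/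
theorem triv_lifted {Γ : Type} [Group Γ] [Finite Γ] (σ : Γ →* K) (hs : Function.Surjective σ)
    (hc : σ.ker ≤ Subgroup.center Γ) (h2 : Nat.card σ.ker = 2)
    (D : Data) (hgen : ∀ L ∈ D.L ++ D.fus.map (·.G), ∃ s ∈ K, toList s = L)
    (h1 : D.relsOK = true) (h2k : D.kOK trivModule = true) (h3 : D.fusOK = true)
    (h4 : D.identsOK trivModule = true) (h5 : Data.NFGood.{0} D) :
    ∃ H : Subgroup Γ, H ⊓ σ.ker = ⊥ ∧ Nat.card H = D.NF.length := by
  classical
  obtain ⟨z0, z1, hz01, huniv⟩ := Nat.card_eq_two_iff.mp h2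
  haveI : Nontrivial σ.ker := ⟨⟨z0, z1, hz01⟩⟩
  obtain ⟨z, hz⟩ := exists_ne (1 : σ.ker)
  have hall : ∀ a ∈ σ.ker, a = 1 ∨ a = (z : Γ) := by
    intro a ha
    have h := huniv.ge (Set.mem_univ (⟨a, ha⟩ : σ.ker))
    have h1 := huniv.ge (Set.mem_univ (1 : σ.ker))
    have hz' := huniv.ge (Set.mem_univ z)
    simp only [Set.mem_insert_iff, Set.mem_singleton_iff] at h h1 hz'
    have : (⟨a, ha⟩ : σ.ker) = 1 ∨ (⟨a, ha⟩ : σ.ker) = z := by
      rcases h with h | h <;> rcases h1 with h1 | h1 <;> rcases hz' with hz' | hz' <;>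
        first
          | exact absurd (hz'.trans h1.symm) hz
          | exact Or.inl (h.trans h1.symm)
          | exact Or.inr (h.trans hz'.symm)
    exact this.imp (congrArg Subtype.val) (congrArg Subtype.val)
  have hz1 : (z : Γ) ≠ 1 := fun h => hz (Subtype.ext h)
  have hzz : (z : Γ) * z = 1 := by
    rcases hall _ (mul_mem z.2 z.2) with h | h
    · exact h
    · exact absurd (mul_eq_left.mp h) hz1
  let P : Pairing σ.ker trivModule.z :=
    { pair := fun m a => if a = 1 then 0 else (m : ZMod 2)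
      pair_mul := fun m a ha b hb => by
        rcases hall a ha with rfl | rfl <;> rcases hall b hb with rfl | rfl <;>
          simp [hz1, hzz, CharTwo.add_self_eq_zero]
      pair_xor := fun m m' a _ => by
        split
        · simp
        · rw [← ZMod.natCast_mod, ← ZMod.natCast_mod m, ← ZMod.natCast_mod m', ← Nat.cast_add]
          have h : (m ^^^ m') % 2 = (m % 2 + m' % 2) % 2 := by
            rcases Nat.mod_two_eq_zero_or_one (m ^^^ m') with h0 | h0 <;>
              have h1 := Nat.xor_mod_two_eq_one (a := m) (b := m') <;>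
              rw [h0] at h1 ⊢ <;> omega
          rw [h, ZMod.natCast_mod]
      pair_zero := fun m hm a _ => by
        have : m % 2 = 0 := by simpa [trivModule] using hm
        rw [← ZMod.natCast_mod, this]; simp }
  let π : Γ →* Equiv.Perm GolayPt := K.subtype.comp σ
  have hker : π.ker = σ.ker := by ext a; simp [π, MonoidHom.mem_ker]
  refine exists_lifted D P π hker (fun x m a ha => ?_) (fun _ => (z : Γ)) (fun _ => z.2)
    (fun m c => ?_) (fun a ha h => ?_) (fun L hL => ?_) h1 h2k h3 h4 h5
  · show P.pair m (x * a * x⁻¹) = P.pair m a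
    rw [Subgroup.mem_center_iff.mp (hc ha) x, mul_inv_cancel_right]
  · show (if (z : Γ) = 1 then (0 : ZMod 2) else (m : ZMod 2)) = if trivModule.bp m c then 1 else 0
    rw [if_neg hz1, ← ZMod.natCast_mod]
    rcases Nat.mod_two_eq_zero_or_one m with h | h <;> simp [trivModule, h]
  · have h' := h 1 (by simp [trivModule])
    by_contra hne
    simp [P, hne] at h'
  · obtain ⟨s, hs', rfl⟩ := hgen L hL
    obtain ⟨x, hx⟩ := hs ⟨s, hs'⟩
    exact ⟨x, by simp [π, hx]⟩

/-- No stem extension with kernel of order two. -/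
theorem noStem_two (D : Data) (hgen : ∀ L ∈ D.L ++ D.fus.map (·.G), ∃ s ∈ K, toList s = L)
    (h1 : D.relsOK = true) (h2 : D.kOK trivModule = true) (h3 : D.fusOK = true)
    (h4 : D.identsOK trivModule = true) (h5 : Data.NFGood.{0} D)
    (hidx : ∀ d, d * D.NF.length = Nat.card K → ¬ 2 ∣ d) : Multiplier.NoStem ↥K 2 := by
  refine Multiplier.noStem_of_partial ↥K Nat.prime_two fun Γ _ _ σ hσ hcard => ?_
  obtain ⟨H, hH, hc⟩ := triv_lifted σ hσ.1 hσ.2.1 hcard D hgen h1 h2 h3 h4 h5
  exact ⟨H, hH, fun d hd => hidx d (hc ▸ hd)⟩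

end CfsgLib.ExtCert
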