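/-
The multiplier of the largest Mathieu group is trivial.
-/
import Cfsg.Agent.ExtCert.TrivModule
import Cfsg.Agent.ExtCert.TrivM24Closed
import Cfsg.Agent.ExtCert.TrivM24Keys
import Cfsg.Agent.Multiplier.ThreePerm
import Cfsg.Agent.Golay.M24Basics

set_option autoImplicit false
set_option maxRecDepth 100000

namespace CfsgLib.ExtCert.TrivM24

open Cfsg CfsgLib.Golay CfsgLib.Golay.Cert CfsgLib.Multiplier

theorem rels_ok : data.relsOK = true := by decide +kernel

theorem k_ok : data.kOK trivModule = true := by decide +kernel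

theorem fus_ok : data.fusOK = true := by decide +kernel

theorem idents_ok : data.identsOK trivModule = true := by decide +kernel

theorem nf_ok : data.nfIncOK = true := by
  simp only [Data.nfIncOK, Bool.and_eq_true, beq_iff_eq]
  exact ⟨⟨closed_ok, rfl⟩, keys_ok⟩

theorem gen_ok : ∀ L ∈ data.L ++ data.fus.map (·.G) ++ threeL, genOK L = true := by decide +kernel

theorem nf_length : data.NF.length = 1024 := by decide +kernel

theorem mem_M24 {L : List ℕ} (h : L ∈ data.L ++ data.fus.map (·.G)) : ∃ s ∈ M24, toList s = L := by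
  obtain ⟨g, hg⟩ := genOK_spec (gen_ok L (List.mem_append_left _ h))
  exact ⟨g.1, g.2, hg⟩

theorem heis_ok : heisT threeL = true := by decide +kernel

/-- The multiplier of M₂₄ is trivial. -/
theorem multiplier : Cfsg.HasCyclicSchurMultiplier ↥M24 1 := by
  have hcard := CfsgLib.Golay.card_M24
  refine hasTrivial_of_noStem ↥M24 fun p hp => ?_
  by_cases h2 : p = 2
  · subst h2
    exact noStem_two data (fun L hL => mem_M24 hL) rels_ok k_ok fus_ok idents_ok
      (Data.nfGood_of_inc _ nf_ok) fun d hd => by rw [nf_length, hcard] at hd; omega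
  by_cases h3 : p = 3
  · subst h3
    refine noStem_heis_perm threeL (fun L hL => ?_) heis_ok fun d hd => by rw [hcard] at hd; omega
    obtain ⟨g, hg⟩ := genOK_spec (gen_ok L (List.mem_append_right _ hL))
    exact ⟨g.1, g.2, hg⟩
  exact noStem_large (a := 10) (b := 3) (M := 8855) (by rw [hcard]; norm_num) (by norm_num)
    (by decide +kernel) hp h2 h3

end CfsgLib.ExtCert.TrivM24
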