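/-
The pairing for extensions by the words of the length-24 code vanishing at the extra point.
-/
import Cfsg.Agent.ExtCert.Cert
import Cfsg.Agent.Golay.Mathieu
import Cfsg.Prelude.Def_Spor_Mathieu

set_option autoImplicit false

namespace CfsgLib.ExtCert

open Cfsg CfsgLib.Golay CfsgLib.Golay.Cert

/-- A mask is a code word. -/
def inCode (m : ℕ) : Bool := word (m % 4096) == m

/-- Masks orthogonal to every word vanishing at the extra point. -/
def zCode (m : ℕ) : Bool := forceN m fun m => inCode m || inCode (m ^^^ 2 ^ 23)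

/-- Parity of the common bits. -/
def dotBit (a b : ℕ) : Bool := wt 24 (a &&& b) % 2 == 1

theorem dot_vec (a b : ℕ) : ∑ q, vec a q * vec b q = if dotBit a b then 1 else 0 := by
  have h1 : ∀ q, vec a q * vec b q = if q ∈ pts (a &&& b) then 1 else 0 := by
    intro q
    simp only [vec, pts, Finset.mem_filter, Finset.mem_univ, true_and, Nat.testBit_and]
    cases a.testBit (idx q) <;> cases b.testBit (idx q) <;> simp
  rw [Finset.sum_congr rfl fun q _ => h1 q, Finset.sum_boole]
  have hu : (Finset.univ.filter fun q => q ∈ pts (a &&& b)) = pts (a &&& b) := by ext q; simp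
  rw [hu, card_pts, dotBit]
  rcases Nat.mod_two_eq_zero_or_one (wt 24 (a &&& b)) with h | h
  · rw [← ZMod.natCast_mod, h]; simp
  · rw [← ZMod.natCast_mod, h]; simp

theorem unit_dot (i : ℕ) (w : GolayPt → ZMod 2) (hi : i < 24) : ∑ q, vec (2 ^ i) q * w q = w (pt i) := by
  rw [Finset.sum_eq_single (pt i)]
  · simp [vec, idx_pt i hi, Nat.testBit_two_pow]
  · intro q _ hq
    have : i ≠ idx q := fun h => hq (by rw [h, pt_idx])
    simp [vec, Nat.testBit_two_pow, this]
  · simp

/-- The unit masks. -/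
def units24 : List ℕ := (List.range 24).map (2 ^ ·)

/-- The module of code words vanishing at the extra point. -/
def codeModule (B : List ℕ) : Module' where
  z := zCode
  mvT := fun L m => forceN m fun m => permMask L m 24
  bp := fun m c => dotBit m (B.getD c 0)
  units := units24

theorem zCode_spec {m : ℕ} (h : zCode m = true) {w : GolayPt → ZMod 2} (hw : w ∈ golayCode)
    (h0 : w none = 0) : ∑ q, vec m q * w q = 0 := by
  simp only [zCode, forceN_eq, inCode, Bool.or_eq_true, beq_iff_eq] at h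
  rcases h with h | h
  · exact dot_eq_zero (h ▸ vec_word_mem _) hw
  · have hm : vec m = vec (m ^^^ 2 ^ 23) + vec (2 ^ 23) := by rw [← vec_xor]; simp
    rw [hm]
    simp only [Pi.add_apply, add_mul, Finset.sum_add_distrib]
    rw [dot_eq_zero (h ▸ vec_word_mem _) hw, unit_dot 23 w (by norm_num), show pt 23 = none from rfl, h0,
      add_zero]

variable {E : Type*} [Group E] (N : Subgroup E) [N.Normal]

theorem code_splits [Finite E] (φ : E ⧸ N ≃* ↥Spor.M23)
    (ψ : Additive ↥N →+ (GolayPt → ZMod 2)) (hinj : Function.Injective ψ)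
    (hrange : ∀ w : GolayPt → ZMod 2, w ∈ Set.range ψ ↔ (w ∈ golayCode ∧ w none = 0))
    (hψ : ∀ (g : E) (n : ↥N),
      ψ (Additive.ofMul ⟨g * n * g⁻¹, Subgroup.Normal.conj_mem inferInstance (n : E) n.2 g⟩)
        = ψ (Additive.ofMul n) ∘ ⇑(((φ (QuotientGroup.mk g) : ↥Spor.M23) : Equiv.Perm GolayPt)⁻¹))
    {BAS : List ℕ} (hBAS : ∀ b ∈ BAS, b % 2 ^ 24 = b ∧ inCode b = true ∧ b.testBit 23 = false)
    (D : Data) (hgen : ∀ L ∈ D.L ++ D.fus.map (·.G), genOK L = true ∧ L.getD 23 0 = 23)
    (h1 : D.relsOK = true) (h2 : D.kOK (codeModule BAS) = true) (h3 : D.fusOK = true)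
    (h4 : D.identsOK (codeModule BAS) = true) (h5 : D.nfOK = true)
    (hodd : ∀ d, d * D.NF.length = 10200960 → Odd d) (hcard : Nat.card Spor.M23 = 10200960) :
    ∃ H : Subgroup E, H ⊓ N = ⊥ ∧ H ⊔ N = ⊤ := by
  classical
  let w : E → GolayPt → ZMod 2 := fun a => if h : a ∈ N then ψ (Additive.ofMul ⟨a, h⟩) else 0
  have hw : ∀ a (h : a ∈ N), w a = ψ (Additive.ofMul ⟨a, h⟩) := fun a h => dif_pos h
  let P : Pairing N (codeModule BAS).z :=
    { pair := fun m a => ∑ q, vec m q * w a q
      pair_mul := fun m a ha b hb => by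
        rw [hw _ (mul_mem ha hb), hw _ ha, hw _ hb, ← Finset.sum_add_distrib]
        refine Finset.sum_congr rfl fun q _ => ?_
        rw [show (⟨a * b, mul_mem ha hb⟩ : N) = ⟨a, ha⟩ * ⟨b, hb⟩ from rfl, ofMul_mul, map_add,
          Pi.add_apply, mul_add]
      pair_xor := fun m m' a _ => by simp [vec_xor, add_mul, Finset.sum_add_distrib]
      pair_zero := fun m hm a ha => by
        obtain ⟨h1, h2⟩ := (hrange (w a)).mp (hw a ha ▸ ⟨_, rfl⟩)
        exact zCode_spec hm h1 h2 }
  let π : E →* Equiv.Perm GolayPt := (Spor.M23.subtype.comp φ.toMonoidHom).comp (QuotientGroup.mk' N)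
  have hker : π.ker = N := by
    ext a
    simp [π, MonoidHom.mem_ker, QuotientGroup.eq_one_iff]
  have hconj : ∀ x m, ∀ a ∈ N, P.pair m (x * a * x⁻¹) = P.pair ((codeModule BAS).mvT (invL (toList (π x))) m) a := by
    intro x m a ha
    show ∑ q, vec m q * w (x * a * x⁻¹) q = ∑ q, vec (forceN m fun m => permMask (invL (toList (π x))) m 24) q * w a q
    rw [forceN_eq]
    rw [← toList_inv, vec_permMask, hw _ (Subgroup.Normal.conj_mem inferInstance a ha x), hψ x ⟨a, ha⟩, hw _ ha]
    refine (Equiv.sum_comp (π x) (fun q => vec m q * _)).symm.trans (Finset.sum_congr rfl fun q _ => ?_)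
    simp [π]
  have hB : ∀ c, ∃ a ∈ N, w a = vec (BAS.getD c 0) := by
    intro c
    obtain ⟨hc1, hc2⟩ : vec (BAS.getD c 0) ∈ golayCode ∧ vec (BAS.getD c 0) none = 0 := by
      rcases lt_or_ge c BAS.length with hc | hc
      · rw [List.getD_eq_getElem _ _ hc]
        obtain ⟨-, h1, h2⟩ := hBAS _ (List.getElem_mem hc)
        simp only [inCode, beq_iff_eq] at h1
        exact ⟨h1 ▸ vec_word_mem _, by simp [vec, idx, h2]⟩
      · rw [List.getD_eq_default _ _ hc, vec_zero]; exact ⟨zero_mem _, rfl⟩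
    obtain ⟨a, ha⟩ := (hrange _).mpr ⟨hc1, hc2⟩
    exact ⟨_, a.toMul.2, by rw [hw _ a.toMul.2]; exact ha⟩
  choose B hBN hBw using hB
  haveI hcomm : IsMulCommutative N :=
    ⟨⟨fun a b => Additive.ofMul.injective (hinj (by rw [ofMul_mul, ofMul_mul, map_add, map_add, add_comm]))⟩⟩
  have hsurj : ∀ σ ∈ Spor.M23, ∃ x, π x = σ := fun σ hσ => by
    obtain ⟨x, hx⟩ := QuotientGroup.mk_surjective (φ.symm ⟨σ, hσ⟩)
    exact ⟨x, by simp [π, hx]⟩
  obtain ⟨H, hH, hcardH⟩ := exists_lifted D P π hker hconj B hBN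
    (fun m c => by show ∑ q, vec m q * w (B c) q = _; rw [hBw, dot_vec]; rfl)
    (fun a ha h => by
      have h0 : w a = 0 := funext fun q => by
        have h' := h (2 ^ idx q) (List.mem_map.mpr ⟨idx q, List.mem_range.mpr (idx_lt q), rfl⟩)
        rwa [show P.pair (2 ^ idx q) a = w a (pt (idx q)) from unit_dot _ _ (idx_lt q), pt_idx] at h'
      rw [hw a ha] at h0
      exact congrArg Subtype.val (Additive.ofMul.injective (hinj (h0.trans (map_zero ψ).symm)) : (⟨a, ha⟩ : N) = 1))
    (fun L hL => by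
      obtain ⟨h, hfix⟩ := hgen L hL
      obtain ⟨σ, hσ⟩ := genOK_spec h
      have hn : (σ : Equiv.Perm GolayPt) none = none := idx_injective (by
        rw [← toList_getD_idx, hσ]; exact hfix)
      obtain ⟨x, hx⟩ := hsurj σ.1 ⟨σ.2, MulAction.mem_stabilizer_iff.mpr hn⟩
      exact ⟨x, by rw [hx, hσ]⟩)
    h1 h2 h3 h4 (Data.nfGood_of_ok D h5)
  refine complement_of_partial hH fun d hd => ?_
  have hE : Nat.card E = Nat.card Spor.M23 * Nat.card N := by
    rw [← Nat.card_congr φ.toEquiv]; exact N.card_eq_card_quotient_mul_card_subgroup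
  rw [hE, ← mul_assoc, Nat.mul_right_cancel_iff Nat.card_pos, hcard, hcardH] at hd
  have h2 : IsPGroup 2 N := fun a => ⟨1, Additive.ofMul.injective (hinj (by
    rw [pow_one, pow_two, ofMul_mul, map_add, ofMul_one, map_zero]
    funext q
    exact CharTwo.add_self_eq_zero _))⟩
  obtain ⟨n, hn⟩ := h2.exists_card_eq
  rw [hn]
  exact Nat.Coprime.pow_left _ (Nat.coprime_two_left.mpr (hodd d hd))

end CfsgLib.ExtCert
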