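/-
Extensions of the point stabiliser by the cocode modulo the extra point.
-/
import Cfsg.Agent.ExtCert.CodeModule
import Cfsg.Agent.Golay.CodeModule

set_option autoImplicit false
set_option linter.style.haveILetI false

namespace CfsgLib.ExtCert.Cocode

open Cfsg CfsgLib.Golay CfsgLib.Golay.Cert

universe u v

/-- A basis of the code words vanishing at the extra point, reduced at the positions `piv`. -/
def bas : List ℕ := [4845570, 2422785, 7221256, 3610628, 7903248, 5621792, 2019456, 4038912, 8077824, 1009728, 5405696]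

/-- The pivots of the basis. -/
def piv : List ℕ := [1, 0, 3, 2, 4, 5, 7, 8, 9, 6, 10]

/-- Coordinates of a word in the basis. -/
def coords (r : ℕ) : ℕ := ((List.range 11).map fun i => if r.testBit (piv.getD i 0) then 2 ^ i else 0).sum

theorem bas_spec : ∀ b ∈ bas, word (b % 4096) = b ∧ b.testBit 23 = false := by decide +kernel

theorem coords_spec : ∀ c < 4096, (word c).testBit 23 = false → comb bas (coords (word c)) = word c :=
  forall_lt_4096 (by decide +kernel)

/-- The dual module. -/
def module : Module' where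
  z := fun m => m % 2 ^ 11 == 0
  mvT := fun L m => forceN m fun m => forceN (permMask L (comb bas m) 24) coords
  bp := fun m c => decide (c < 11) && m.testBit c
  units := (List.range 11).map (2 ^ ·)

theorem comb_mod : ∀ (L : List ℕ) (m : ℕ), comb L (m % 2 ^ L.length) = comb L m := by
  intro L
  induction L with
  | nil => intro m; rfl
  | cons r L ih =>
    intro m
    rw [comb, comb, List.length_cons, pow_succ', Nat.mod_mul_right_div_self, ih]
    congr 2
    rw [Nat.mod_mul, Nat.add_mul_mod_self_left, Nat.mod_mod]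

theorem comb_mem (m : ℕ) : vec (comb bas m) ∈ golayCode :=
  vec_comb_mem golayCode bas (fun b hb => (bas_spec b hb).1 ▸ vec_word_mem _) m

theorem comb_none (m : ℕ) : vec (comb bas m) none = 0 := by
  have h : vec (comb bas m) ∈ Submodule.comap (LinearMap.id : _ →ₗ[ZMod 2] (GolayPt → ZMod 2))
      (LinearMap.ker (LinearMap.proj (R := ZMod 2) (φ := fun _ : GolayPt => ZMod 2) none)) :=
    vec_comb_mem _ bas (fun b hb => by
      show vec b none = 0
      simp [vec, idx, (bas_spec b hb).2]) m
  exact h

theorem bit_none {r : ℕ} (h : vec r none = 0) : r.testBit 23 = false := by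
  rw [vec, show idx none = 23 from rfl] at h
  cases hb : r.testBit 23
  · rfl
  · simp [hb] at h

theorem move_spec {σ : Equiv.Perm GolayPt} (hσ : σ ∈ Spor.M23) (m : ℕ) :
    vec (comb bas (module.mvT (toList σ) m)) = fun q => vec (comb bas m) (σ⁻¹ q) := by
  obtain ⟨h24, hfix⟩ := hσ
  show vec (comb bas (forceN m fun m => forceN (permMask (toList σ) (comb bas m) 24) coords)) = _
  rw [forceN_eq, forceN_eq, ← vec_permMask]
  have hc : vec (permMask (toList σ) (comb bas m) 24) ∈ golayCode := by
    rw [vec_permMask]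
    exact code_perm ⟨σ, h24⟩ (comb_mem m)
  obtain ⟨c, hc4, hcw⟩ := (mem_code_iff _).mp hc
  have heq := vec_inj (permMask_lt σ _) (word_lt c hc4) hcw
  have hnone : (word c).testBit 23 = false := by
    have h0 : vec (word c) none = 0 := by
      rw [← heq, vec_permMask]
      show vec (comb bas m) (σ⁻¹ none) = 0
      rw [show σ⁻¹ none = none from Equiv.Perm.inv_eq_iff_eq.mpr (MulAction.mem_stabilizer_iff.mp hfix).symm]
      exact comb_none m
    exact bit_none h0
  rw [heq, coords_spec c hc4 hnone]

theorem unit_comb : ∀ i < 11, comb bas (2 ^ i) = bas.getD i 0 := by decide +kernel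

theorem bas_piv : ∀ i < 11, ∀ c < 11, (bas.getD i 0).testBit (piv.getD c 0) = decide (i = c) := by decide +kernel

theorem piv_lt : ∀ c < 11, piv.getD c 0 < 24 := by decide +kernel

theorem comb_testBit (j : ℕ) : ∀ (L : List ℕ) (c : ℕ), c < L.length →
    (∀ i < L.length, (L.getD i 0).testBit j = decide (i = c)) → ∀ m, (comb L m).testBit j = m.testBit c := by
  intro L
  induction L with
  | nil => intro c hc; simp at hc
  | cons r L ih =>
    intro c hc h m
    rw [comb, Nat.testBit_xor]
    have h0 : r.testBit j = decide (0 = c) := by simpa using h 0 (by simp)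
    have hs : ∀ i < L.length, (L.getD i 0).testBit j = decide (i + 1 = c) := fun i hi => by
      simpa using h (i + 1) (by simpa using hi)
    rcases c with _ | c
    · have hz : ∀ (L : List ℕ), (∀ i < L.length, (L.getD i 0).testBit j = false) →
          ∀ m, (comb L m).testBit j = false := by
        intro L
        induction L with
        | nil => intro _ m; simp [comb]
        | cons a L ih =>
          intro h m
          have ha : a.testBit j = false := by simpa using h 0 (by simp)
          rw [comb, Nat.testBit_xor, ih (fun i hi => by simpa using h (i + 1) (by simpa using hi))]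
          split <;> simp [ha]
      rw [hz L (fun i hi => by rw [hs i hi]; simp), Nat.testBit_zero]
      rcases Nat.mod_two_eq_zero_or_one m with hm | hm <;> simp [hm, h0]
    · rw [ih c (by simpa using hc) (fun i hi => by rw [hs i hi]; simp), Nat.testBit_succ]
      split <;> simp [h0]

/-- An extension of the point stabiliser by the module. -/
structure Ext (E : Type u) [Group E] where
  π : E →* Equiv.Perm GolayPt
  mem : ∀ x, π x ∈ Spor.M23
  surj : ∀ σ ∈ Spor.M23, ∃ x, π x = σ
  T : (GolayPt → ZMod 2) → E
  T_add : ∀ a b, T (a + b) = T a * T b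
  T_range : ∀ x, π x = 1 ↔ ∃ w, T w = x
  T_one : ∀ w, T w = 1 ↔ (w ∈ golayCode ∨ w + Pi.single none 1 ∈ golayCode)
  T_conj : ∀ x w, T (w ∘ ⇑((π x)⁻¹)) = x * T w * x⁻¹

namespace Ext

variable {E : Type u} [Group E] (X : Ext E)

theorem T_mem (w : GolayPt → ZMod 2) : X.T w ∈ X.π.ker := (X.T_range _).mpr ⟨w, rfl⟩

theorem T_zero : X.T 0 = 1 := (X.T_one 0).mpr (Or.inl (zero_mem _))

open Classical in
/-- A representing word. -/
noncomputable def rep (a : E) : GolayPt → ZMod 2 := if h : ∃ w, X.T w = a then h.choose else 0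

theorem T_rep {a : E} (ha : a ∈ X.π.ker) : X.T (X.rep a) = a := by
  have h := (X.T_range a).mp ha
  rw [rep, dif_pos h]
  exact h.choose_spec

/-- The value of a mask. -/
noncomputable def val (m : ℕ) (a : E) : ZMod 2 := ∑ q, vec (comb bas m) q * X.rep a q

theorem dot_eq {m : ℕ} {v w : GolayPt → ZMod 2} (h : X.T v = X.T w) :
    ∑ q, vec (comb bas m) q * v q = ∑ q, vec (comb bas m) q * w q := by
  have hvv : v + v = 0 := add_self_zero v
  have hone : X.T (v + w) = 1 := by rw [X.T_add, ← h, ← X.T_add, hvv, X.T_zero]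
  have hdot : ∑ q, vec (comb bas m) q * (v + w) q = 0 := by
    rcases (X.T_one _).mp hone with hc | hc
    · exact dot_eq_zero (comb_mem m) hc
    · have := dot_eq_zero (comb_mem m) hc
      simpa [mul_add, Finset.sum_add_distrib, Pi.single_apply, comb_none] using this
  simp only [Pi.add_apply, mul_add, Finset.sum_add_distrib] at hdot
  exact CharTwo.add_eq_zero.mp hdot

theorem val_T (m : ℕ) (w : GolayPt → ZMod 2) : X.val m (X.T w) = ∑ q, vec (comb bas m) q * w q :=
  X.dot_eq (X.T_rep (X.T_mem w))

theorem comm : IsMulCommutative X.π.ker := ⟨⟨fun a b => Subtype.ext (by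
  show (a : E) * b = b * a
  rw [← X.T_rep a.2, ← X.T_rep b.2, ← X.T_add, ← X.T_add, add_comm])⟩⟩

/-- The pairing. -/
noncomputable def pairing : Pairing X.π.ker module.z where
  pair := X.val
  pair_mul m a ha b hb := by
    conv_lhs => rw [← X.T_rep ha, ← X.T_rep hb, ← X.T_add, X.val_T]
    simp [val, mul_add, Finset.sum_add_distrib]
  pair_xor m m' a _ := by simp [val, comb_xor, vec_xor, add_mul, Finset.sum_add_distrib]
  pair_zero m hm a _ := by
    have h0 : comb bas m = 0 := by
      rw [← comb_mod bas m, show m % 2 ^ bas.length = 0 by simpa [module, bas] using hm]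
      decide
    simp [val, h0, vec_zero]

theorem val_conj (x : E) (m : ℕ) {a : E} (ha : a ∈ X.π.ker) :
    X.val m (x * a * x⁻¹) = X.val (module.mvT (invL (toList (X.π x))) m) a := by
  rw [← toList_inv]
  conv_lhs => rw [← X.T_rep ha, ← X.T_conj, X.val_T]
  rw [val, move_spec (inv_mem (X.mem x))]
  refine (Equiv.sum_comp (X.π x) (fun q => vec (comb bas m) q * _)).symm.trans (Finset.sum_congr rfl fun q _ => ?_)
  simp

theorem val_B (m c : ℕ) :
    X.val m (X.T (if c < 11 then vec (2 ^ piv.getD c 0) else 0)) =
      if c < 11 then (if (comb bas m).testBit (piv.getD c 0) then 1 else 0) else 0 := by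
  rw [X.val_T]
  split
  · next hc =>
    rw [Finset.sum_congr rfl fun q _ => mul_comm (vec (comb bas m) q) _, unit_dot _ _ (piv_lt c hc)]
    simp only [vec]
    rw [idx_pt _ (piv_lt c hc)]
  · simp

theorem sep {a : E} (ha : a ∈ X.π.ker) (h : ∀ m ∈ module.units, X.val m a = 0) : a = 1 := by
  rw [← X.T_rep ha, X.T_one]
  set w := X.rep a
  set e : ZMod 2 := ∑ q, w q
  have hu : ∀ i < 11, ∑ q, vec (bas.getD i 0) q * w q = 0 := fun i hi => by
    have := h (2 ^ i) (List.mem_map.mpr ⟨i, List.mem_range.mpr hi, rfl⟩)
    rwa [val, unit_comb i hi] at this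
  have hall : ∀ v ∈ golayCode, v none = 0 → ∑ q, v q * w q = 0 := by
    intro v hv h0
    obtain ⟨c, hc4, rfl⟩ := (mem_code_iff v).mp hv
    rw [← coords_spec c hc4 (bit_none h0)]
    let S : Submodule (ZMod 2) (GolayPt → ZMod 2) :=
      { carrier := {v | ∑ q, v q * w q = 0}
        add_mem' := fun {a b} (ha : ∑ q, a q * w q = 0) (hb : ∑ q, b q * w q = 0) => by
          show ∑ q, (a + b) q * w q = 0
          simp [add_mul, Finset.sum_add_distrib, ha, hb]
        zero_mem' := by simp
        smul_mem' := fun r v (hv : ∑ q, v q * w q = 0) => by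
          show ∑ q, (r • v) q * w q = 0
          simp [mul_assoc, ← Finset.mul_sum, hv] }
    exact vec_comb_mem S bas (fun b hb => by
      obtain ⟨i, hi, rfl⟩ := List.mem_iff_getElem.mp hb
      rw [← List.getD_eq_getElem _ 0 hi]
      exact hu i (by simpa [bas] using hi)) _
  have hone : (1 : GolayPt → ZMod 2) ∈ golayCode := by
    rw [one_eq]
    exact vec_genMasks_mem _ (by decide +kernel)
  have horth : w + e • Pi.single none 1 ∈ golayCode := by
    refine mem_code_of_orth fun c => ?_
    set v := vec (word c)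
    have hv : v ∈ golayCode := vec_word_mem c
    have h0 := hall (v + v none • 1) (add_mem hv (Submodule.smul_mem _ _ hone)) (by
      simp [CharTwo.add_self_eq_zero])
    simp only [Pi.add_apply, Pi.smul_apply, Pi.one_apply, smul_eq_mul, mul_one, add_mul, Finset.sum_add_distrib,
      ← Finset.mul_sum] at h0
    simp only [Pi.add_apply, Pi.smul_apply, smul_eq_mul, add_mul, Finset.sum_add_distrib, Pi.single_apply,
      mul_ite, mul_one, mul_zero, ite_mul, zero_mul, Finset.sum_ite_eq', Finset.mem_univ, if_true]
    rw [Finset.sum_congr rfl fun q _ => mul_comm (w q) (v q), mul_comm e]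
    exact h0
  rcases zmod_two e with he | he
  · rw [he, zero_smul, add_zero] at horth; exact Or.inl horth
  · rw [he, one_smul] at horth; exact Or.inr horth

theorem lift_list {L : List ℕ} (h : genOK L = true ∧ L.getD 23 0 = 23) : ∃ x, toList (X.π x) = L := by
  obtain ⟨σ, hσ⟩ := genOK_spec h.1
  have hn : (σ : Equiv.Perm GolayPt) none = none := idx_injective (by
    rw [← toList_getD_idx, hσ]; exact h.2)
  obtain ⟨x, hx⟩ := X.surj σ.1 ⟨σ.2, MulAction.mem_stabilizer_iff.mpr hn⟩
  exact ⟨x, by rw [hx, hσ]⟩

/-- If the remaining forms vanish on the tails of some lifts, the extension splits. -/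
theorem splits_of_extra [Finite E] (D : Data) (hgen : ∀ L ∈ D.L ++ D.fus.map (·.G), genOK L = true ∧ L.getD 23 0 = 23)
    (h1 : D.relsOK = true) (h2 : D.kOK module = true) (h3 : D.fusOK = true) (extra : List Form)
    (h4 : ({D with K := D.K ++ extra} : Data).identsOK module = true) (h5 : Data.NFGood.{u} D)
    (hodd : ∀ d, d * D.NF.length = 10200960 → Odd d) (hcard : Nat.card Spor.M23 = 10200960)
    (g : ℕ → E) (hg : ∀ j, toList (X.π (g j)) = D.L.getD j (List.range 24))
    (hx : ∀ f ∈ extra, fval X.val (tailOf D.rels g) f = 0) :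
    ∃ H : Subgroup E, H ⊓ X.π.ker = ⊥ ∧ H ⊔ X.π.ker = ⊤ := by
  haveI := X.comm
  obtain ⟨H, hH, hcardH⟩ := exists_lifted_extra (M := module) D X.pairing X.π rfl
    (fun x m a ha => X.val_conj x m ha)
    (fun c => X.T (if c < 11 then vec (2 ^ piv.getD c 0) else 0)) (fun c => X.T_mem _)
    (fun m c => by
      show X.val m _ = if (decide (c < 11) && m.testBit c) then 1 else 0
      rw [X.val_B]
      by_cases hc : c < 11
      · rw [comb_testBit _ bas c (by simpa [bas] using hc) (fun i hi => bas_piv i (by simpa [bas] using hi) c hc)]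
        simp [hc]
      · simp [hc])
    (fun a ha h => X.sep ha h) (fun L hL => X.lift_list (hgen L hL)) h1 h2 h3 extra h4 h5 g hg hx
  refine complement_of_partial hH fun d hd => ?_
  have hE : Nat.card E = Nat.card Spor.M23 * Nat.card X.π.ker := by
    have h := X.π.ker.card_mul_index
    have hr : X.π.range = Spor.M23 := le_antisymm (fun y ⟨x, hx⟩ => hx ▸ X.mem x) fun σ hσ => X.surj σ hσ
    rw [Subgroup.index_ker, hr] at h
    rw [← h, mul_comm]
  rw [hE, ← mul_assoc, Nat.mul_right_cancel_iff Nat.card_pos, hcard, hcardH] at hd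
  have h2 : IsPGroup 2 X.π.ker := fun a => ⟨1, Subtype.ext (by
    show (a : E) ^ 2 ^ 1 = 1
    rw [pow_one, pow_two, ← X.T_rep a.2, ← X.T_add, add_self_zero, X.T_zero])⟩
  obtain ⟨n, hn⟩ := h2.exists_card_eq
  rw [hn]
  exact Nat.Coprime.pow_left _ (Nat.coprime_two_left.mpr (hodd d hd))

end Ext

end CfsgLib.ExtCert.Cocode
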