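/-
The checks of the certificate for the cocode module.
-/
import Cfsg.Agent.ExtCert.CocodeModule
import Cfsg.Agent.ExtCert.CocodeData

set_option autoImplicit false
set_option maxRecDepth 100000

namespace CfsgLib.ExtCert.Cocode

open CfsgLib.Golay CfsgLib.Golay.Cert

theorem gen_ok : ∀ L ∈ data.L ++ data.fus.map (·.G), genOK L = true ∧ L.getD 23 0 = 23 := by decide +kernel

theorem rels_ok : data.relsOK = true := by decide +kernel

theorem fus_ok : data.fusOK = true := by decide +kernel

theorem nf_ok : data.nfIncOK = true := by decide +kernel

theorem nf_length : data.NF.length = 128 := by decide +kernel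

theorem k_ok : data.kOK module = true := by decide +kernel

theorem idents_ok : ({data with K := data.K ++ extraL} : Data).identsOK module = true := by decide +kernel

theorem extra_spec : extraL.length = 1 := by decide +kernel

end CfsgLib.ExtCert.Cocode
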