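/-
A non-split extension of the point stabiliser by the cocode module is unique.
-/
import Cfsg.Agent.ExtCert.CocodeOK

set_option autoImplicit false

namespace CfsgLib.ExtCert.Cocode

open Cfsg CfsgLib.Golay CfsgLib.Golay.Cert

universe u v

theorem map_ev {A : Type u} {B : Type v} [Group A] [Group B] (f : A →* B) (g : ℕ → A) (w : List ℕ) :
    f (ev g w) = ev (fun j => f (g j)) w := by
  simp [ev, map_list_prod, List.map_map, Function.comp_def]

theorem map_tailOf {A : Type u} {B : Type v} [Group A] [Group B] (f : A →* B)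
    (rels : List (List ℕ × List ℕ)) (g : ℕ → A) (k : ℕ) :
    f (tailOf rels g k) = tailOf rels (fun j => f (g j)) k := by
  rw [tailOf, tailOf, map_mul, map_inv, map_ev, map_ev]

theorem hodd : ∀ d, d * data.NF.length = 10200960 → Odd d := fun d hd => by
  rw [nf_length] at hd
  rw [show d = 79695 by omega]
  decide

/-- In a non-split extension the remaining form is one on all lifts. -/
theorem obs_eq_one {E : Type u} [Group E] [Finite E] (X : Ext E) (hcard : Nat.card Spor.M23 = 10200960)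
    (hns : ∀ H : Subgroup E, H ⊓ X.π.ker = ⊥ → H ⊔ X.π.ker ≠ ⊤) (g : ℕ → E)
    (hg : ∀ j, toList (X.π (g j)) = data.L.getD j (List.range 24)) {f : Form} (hf : f ∈ extraL) :
    fval X.val (tailOf data.rels g) f = 1 := by
  rcases zmod_two (fval X.val (tailOf data.rels g) f) with h | h
  · exfalso
    obtain ⟨H, h1, h2⟩ := X.splits_of_extra data gen_ok rels_ok k_ok fus_ok extraL idents_ok
      (Data.nfGood_of_inc _ nf_ok) hodd hcard g hg (fun f' hf' => by
        obtain ⟨a, ha⟩ := List.length_eq_one_iff.mp extra_spec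
        simp only [ha, List.mem_singleton] at hf hf'
        rw [hf', ← hf]; exact h)
    exact hns H h1 h2
  · exact h

section Fibre

variable {E : Type u} [Group E] {E' : Type v} [Group E'] (X : Ext E) (X' : Ext E')

/-- The fibre product over the permutations. -/
def fib : Subgroup (E × E') := (X.π.comp (MonoidHom.fst E E')).eqLocus (X'.π.comp (MonoidHom.snd E E'))

/-- The element of the fibre product carried by one word in both. -/
noncomputable def diag (w : GolayPt → ZMod 2) : fib X X' :=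
  ⟨(X.T w, X'.T w), by
    show X.π (X.T w) = X'.π (X'.T w)
    rw [show X.π (X.T w) = 1 from X.T_mem w, show X'.π (X'.T w) = 1 from X'.T_mem w]⟩

/-- The diagonal copy of the module. -/
def diagSub : Subgroup (fib X X') where
  carrier := Set.range (diag X X')
  one_mem' := ⟨0, Subtype.ext (Prod.ext X.T_zero X'.T_zero)⟩
  mul_mem' := by
    rintro _ _ ⟨a, rfl⟩ ⟨b, rfl⟩
    exact ⟨a + b, Subtype.ext (Prod.ext (X.T_add a b) (X'.T_add a b))⟩
  inv_mem' := by
    rintro _ ⟨a, rfl⟩
    refine ⟨a, eq_inv_of_mul_eq_one_left (Subtype.ext (Prod.ext ?_ ?_))⟩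
    · show X.T a * X.T a = 1
      rw [← X.T_add, add_self_zero, X.T_zero]
    · show X'.T a * X'.T a = 1
      rw [← X'.T_add, add_self_zero, X'.T_zero]

theorem mem_fib {x : E} {y : E'} : (x, y) ∈ fib X X' ↔ X.π x = X'.π y := Iff.rfl

instance diagSub_normal : (diagSub X X').Normal := ⟨by
  rintro _ ⟨w, rfl⟩ ⟨⟨x, y⟩, h⟩
  refine ⟨w ∘ ⇑((X.π x)⁻¹), Subtype.ext (Prod.ext ?_ ?_)⟩
  · exact X.T_conj x w
  · show X'.T (w ∘ ⇑((X.π x)⁻¹)) = y * X'.T w * y⁻¹
    rw [(mem_fib X X').mp h]
    exact X'.T_conj y w⟩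

/-- The first module inside the fibre product. -/
noncomputable def left (w : GolayPt → ZMod 2) : fib X X' :=
  ⟨(X.T w, 1), by show X.π (X.T w) = X'.π 1; rw [map_one]; exact X.T_mem w⟩

/-- The difference extension. -/
noncomputable def diff : Ext (fib X X' ⧸ diagSub X X') where
  π := QuotientGroup.lift (diagSub X X') ((X.π.comp (MonoidHom.fst E E')).comp (fib X X').subtype)
    (by rintro _ ⟨w, rfl⟩; exact X.T_mem w)
  mem := by
    intro q
    obtain ⟨p, rfl⟩ := QuotientGroup.mk_surjective q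
    exact X.mem _
  surj σ hσ := by
    obtain ⟨x, hx⟩ := X.surj σ hσ
    obtain ⟨y, hy⟩ := X'.surj σ hσ
    exact ⟨QuotientGroup.mk ⟨(x, y), hx.trans hy.symm⟩, hx⟩
  T w := QuotientGroup.mk (left X X' w)
  T_add a b := by
    rw [← QuotientGroup.mk_mul]
    exact congrArg _ (Subtype.ext (Prod.ext (X.T_add a b) (one_mul 1).symm))
  T_range q := by
    obtain ⟨⟨⟨x, y⟩, h⟩, rfl⟩ := QuotientGroup.mk_surjective q
    constructor
    · intro hx
      obtain ⟨u, rfl⟩ := (X.T_range x).mp hx
      obtain ⟨v, rfl⟩ := (X'.T_range y).mp (((mem_fib X X').mp h).symm.trans hx)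
      refine ⟨u + v, QuotientGroup.eq.mpr ⟨v, eq_inv_mul_iff_mul_eq.mpr (Subtype.ext (Prod.ext ?_ ?_))⟩⟩
      · show X.T (u + v) * X.T v = X.T u
        rw [← X.T_add, add_assoc, add_self_zero, add_zero]
      · exact one_mul _
    · rintro ⟨w, hw⟩
      rw [← hw]
      exact X.T_mem w
  T_one w := by
    rw [QuotientGroup.eq_one_iff]
    constructor
    · rintro ⟨v, hv⟩
      have h1 : X.T v = X.T w := congrArg (fun p : fib X X' => p.1.1) hv
      have h2 : X'.T v = 1 := congrArg (fun p : fib X X' => p.1.2) hv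
      exact (X.T_one w).mp (h1.symm.trans ((X.T_one v).mpr ((X'.T_one v).mp h2)))
    · intro h
      exact ⟨0, Subtype.ext (Prod.ext (X.T_zero.trans ((X.T_one w).mpr h).symm) X'.T_zero)⟩
  T_conj q w := by
    obtain ⟨⟨⟨x, y⟩, h⟩, rfl⟩ := QuotientGroup.mk_surjective q
    rw [← QuotientGroup.mk_inv, ← QuotientGroup.mk_mul, ← QuotientGroup.mk_mul]
    refine congrArg _ (Subtype.ext (Prod.ext (X.T_conj x w) ?_))
    show (1 : E') = y * 1 * y⁻¹
    group

theorem val_diff (m : ℕ) {p : fib X X'} (hx : X.π p.1.1 = 1) :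
    (diff X X').val m (QuotientGroup.mk p) = X.val m p.1.1 + X'.val m p.1.2 := by
  obtain ⟨⟨x, y⟩, h⟩ := p
  obtain ⟨u, rfl⟩ := (X.T_range x).mp hx
  obtain ⟨v, rfl⟩ := (X'.T_range y).mp (((mem_fib X X').mp h).symm.trans hx)
  have he : (QuotientGroup.mk ⟨(X.T u, X'.T v), h⟩ : fib X X' ⧸ diagSub X X') = (diff X X').T (u + v) := by
    symm
    show (QuotientGroup.mk (left X X' (u + v)) : fib X X' ⧸ diagSub X X') = _
    refine QuotientGroup.eq.mpr ⟨v, eq_inv_mul_iff_mul_eq.mpr (Subtype.ext (Prod.ext ?_ ?_))⟩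
    · show X.T (u + v) * X.T v = X.T u
      rw [← X.T_add, add_assoc, add_self_zero, add_zero]
    · exact one_mul _
  rw [he, Ext.val_T, X.val_T, X'.val_T]
  simp [mul_add, Finset.sum_add_distrib]

end Fibre

theorem unique {E : Type u} [Group E] [Finite E] {E' : Type v} [Group E'] [Finite E'] (X : Ext E) (X' : Ext E')
    (hcard : Nat.card Spor.M23 = 10200960)
    (hns : ∀ H : Subgroup E, H ⊓ X.π.ker = ⊥ → H ⊔ X.π.ker ≠ ⊤)
    (hns' : ∀ H : Subgroup E', H ⊓ X'.π.ker = ⊥ → H ⊔ X'.π.ker ≠ ⊤) : Nonempty (E ≃* E') := by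
  obtain ⟨g, hg⟩ := exists_lifts data X.π (fun L hL => X.lift_list (gen_ok L hL))
  obtain ⟨g', hg'⟩ := exists_lifts data X'.π (fun L hL => X'.lift_list (gen_ok L hL))
  let q := QuotientGroup.mk' (diagSub X X')
  let gF : ℕ → fib X X' := fun j => ⟨(g j, g' j), toList_injective ((hg j).trans (hg' j).symm)⟩
  have htail : ∀ k, X.π (tailOf data.rels g k) = 1 := by
    intro k
    rw [tailOf, map_mul, map_inv, inv_mul_eq_one]
    refine (toList_injective ?_).symm
    rw [toList_ev hg, toList_ev hg]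
    rcases lt_or_ge k data.rels.length with hk | hk
    · have h1 := rels_ok
      simp only [Data.relsOK, List.all_eq_true, beq_iff_eq] at h1
      rw [List.getD_eq_getElem _ _ hk]
      exact h1 _ (List.getElem_mem _)
    · rw [List.getD_eq_default _ _ hk]
  obtain ⟨K, hK1, hK2⟩ := (diff X X').splits_of_extra data gen_ok rels_ok k_ok fus_ok extraL idents_ok
    (Data.nfGood_of_inc _ nf_ok) hodd hcard (fun j => q (gF j)) hg fun f hf => by
      have h1 := obs_eq_one X hcard hns g hg hf
      have h2 := obs_eq_one X' hcard hns' g' hg' hf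
      have hk : ∀ k m, (diff X X').val m (tailOf data.rels (fun j => q (gF j)) k) =
          X.val m (tailOf data.rels g k) + X'.val m (tailOf data.rels g' k) := by
        intro k m
        rw [← map_tailOf q data.rels gF]
        have e1 : (tailOf data.rels gF k).1.1 = tailOf data.rels g k :=
          map_tailOf ((MonoidHom.fst E E').comp (fib X X').subtype) data.rels gF k
        have e2 : (tailOf data.rels gF k).1.2 = tailOf data.rels g' k :=
          map_tailOf ((MonoidHom.snd E E').comp (fib X X').subtype) data.rels gF k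
        show (diff X X').val m (QuotientGroup.mk _) = _
        rw [val_diff X X' m (by rw [e1]; exact htail k), e1, e2]
      have hsum : fval (diff X X').val (tailOf data.rels fun j => q (gF j)) f =
          fval X.val (tailOf data.rels g) f + fval X'.val (tailOf data.rels g') f := by
        simp only [fval, hk, List.sum_map_add]
      rw [hsum, h1, h2]; decide
  set K' := K.comap q
  have hdiag : ∀ w, diag X X' w ∈ K' := fun w => by
    show q (diag X X' w) ∈ K
    rw [show q (diag X X' w) = 1 from (QuotientGroup.eq_one_iff _).mpr ⟨w, rfl⟩]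
    exact one_mem K
  have hinter : ∀ p ∈ K', X.π p.1.1 = 1 → p ∈ diagSub X X' := fun p hp h1 => by
    have : q p ∈ K ⊓ (diff X X').π.ker := Subgroup.mem_inf.mpr ⟨hp, h1⟩
    rw [hK1, Subgroup.mem_bot] at this
    exact (QuotientGroup.eq_one_iff p).mp this
  let f1 : K' →* E := ((MonoidHom.fst E E').comp (fib X X').subtype).comp K'.subtype
  let f2 : K' →* E' := ((MonoidHom.snd E E').comp (fib X X').subtype).comp K'.subtype
  have hdec : ∀ p : fib X X', ∃ k ∈ K', ∃ w, p = k * left X X' w := by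
    intro p
    have hp : q p ∈ K ⊔ (diff X X').π.ker := hK2 ▸ Subgroup.mem_top _
    rw [← SetLike.mem_coe, Subgroup.mul_normal] at hp
    obtain ⟨a, ha, b, hb, hab⟩ := hp
    obtain ⟨w, rfl⟩ := ((diff X X').T_range b).mp hb
    refine ⟨p * (left X X' w)⁻¹, ?_, w, by group⟩
    show q (p * (left X X' w)⁻¹) ∈ K
    rw [map_mul, map_inv, ← hab]
    show a * _ * ((diff X X').T w)⁻¹ ∈ K
    rw [mul_inv_cancel_right]
    exact ha
  have b1 : Function.Bijective f1 := by
    refine ⟨(injective_iff_map_eq_one f1).mpr fun ⟨p, hp⟩ h1 => ?_, fun x => ?_⟩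
    · have hx : p.1.1 = 1 := h1
      obtain ⟨w, rfl⟩ := hinter p hp (by rw [hx, map_one])
      exact Subtype.ext (Subtype.ext (Prod.ext hx ((X'.T_one w).mpr ((X.T_one w).mp hx))))
    · obtain ⟨y, hy⟩ := X'.surj _ (X.mem x)
      obtain ⟨k, hk, w, hkw⟩ := hdec ⟨(x, y), hy.symm⟩
      refine ⟨⟨k * diag X X' w, mul_mem hk (hdiag w)⟩, ?_⟩
      show k.1.1 * X.T w = x
      exact (congrArg (fun p : fib X X' => p.1.1) hkw).symm
  have b2 : Function.Bijective f2 := by
    refine ⟨(injective_iff_map_eq_one f2).mpr fun ⟨p, hp⟩ h1 => ?_, fun y => ?_⟩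
    · have hy : p.1.2 = 1 := h1
      obtain ⟨w, rfl⟩ := hinter p hp ((show X.π p.1.1 = X'.π p.1.2 from p.2).trans (by rw [hy, map_one]))
      exact Subtype.ext (Subtype.ext (Prod.ext ((X.T_one w).mpr ((X'.T_one w).mp hy)) hy))
    · obtain ⟨x, hx⟩ := X.surj _ (X'.mem y)
      obtain ⟨k, hk, w, hkw⟩ := hdec ⟨(x, y), hx⟩
      refine ⟨⟨k, hk⟩, ?_⟩
      show k.1.2 = y
      have := congrArg (fun p : fib X X' => p.1.2) hkw
      exact (this.trans (mul_one _)).symm
  exact ⟨(MulEquiv.ofBijective f1 b1).symm.trans (MulEquiv.ofBijective f2 b2)⟩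

/-- The statement's data as an extension. -/
theorem exists_ext {E : Type u} [Group E] (N : Subgroup E) [N.Normal] (φ : E ⧸ N ≃* ↥Spor.M23)
    (θ : (GolayPt → ZMod 2) →+ Additive ↥N) (hsurj : Function.Surjective θ)
    (hker : ∀ w : GolayPt → ZMod 2, θ w = 0 ↔ (w ∈ golayCode ∨ w + Pi.single none 1 ∈ golayCode))
    (hθ : ∀ (g : E) (w : GolayPt → ZMod 2),
      ((θ (w ∘ ⇑(((φ (QuotientGroup.mk g) : ↥Spor.M23) : Equiv.Perm GolayPt)⁻¹))).toMul : E)
        = g * ((θ w).toMul : E) * g⁻¹) : ∃ X : Ext E, X.π.ker = N := by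
  refine ⟨{ π := (Spor.M23.subtype.comp φ.toMonoidHom).comp (QuotientGroup.mk' N)
            mem := fun x => (φ (QuotientGroup.mk x)).2
            surj := fun σ hσ => ?_
            T := fun w => ((θ w).toMul : E)
            T_add := fun a b => by rw [map_add]; rfl
            T_range := fun x => ?_
            T_one := fun w => ?_
            T_conj := hθ }, ?_⟩
  · obtain ⟨x, hx⟩ := QuotientGroup.mk_surjective (φ.symm ⟨σ, hσ⟩)
    exact ⟨x, by simp [hx]⟩
  · simp only [MonoidHom.comp_apply, QuotientGroup.mk'_apply, MulEquiv.coe_toMonoidHom, Subgroup.coe_subtype,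
      OneMemClass.coe_eq_one, EmbeddingLike.map_eq_one_iff, QuotientGroup.eq_one_iff]
    constructor
    · intro hx
      obtain ⟨w, hw⟩ := hsurj (Additive.ofMul ⟨x, hx⟩)
      exact ⟨w, by rw [hw]; rfl⟩
    · rintro ⟨w, rfl⟩; exact (θ w).toMul.2
  · rw [← hker w]
    exact ⟨fun h => Additive.toMul.injective (Subtype.ext h), fun h => by rw [h]; rfl⟩
  · ext a
    simp [MonoidHom.mem_ker, QuotientGroup.eq_one_iff]

end CfsgLib.ExtCert.Cocode
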