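/-
The checks of the splitting certificate for the code module.
-/
import Cfsg.Agent.ExtCert.CodeModule
import Cfsg.Agent.ExtCert.CodeData

set_option autoImplicit false
set_option maxRecDepth 100000

namespace CfsgLib.ExtCert.CodeData

open CfsgLib.Golay CfsgLib.Golay.Cert

theorem bas_ok : ∀ b ∈ BAS, b % 2 ^ 24 = b ∧ inCode b = true ∧ b.testBit 23 = false := by decide +kernel

theorem gen_ok : ∀ L ∈ data.L ++ data.fus.map (·.G), genOK L = true ∧ L.getD 23 0 = 23 := by decide +kernel

theorem rels_ok : data.relsOK = true := by decide +kernel

theorem fus_ok : data.fusOK = true := by decide +kernel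

theorem nf_ok : data.nfOK = true := by decide +kernel

theorem k_ok : data.kOK (codeModule BAS) = true := by decide +kernel

theorem idents_ok : data.identsOK (codeModule BAS) = true := by decide +kernel

theorem nf_length : data.NF.length = 128 := by decide +kernel

end CfsgLib.ExtCert.CodeData
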