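/-
Certificates for the double cover of the smaller five-transitive Mathieu group.
-/
import Cfsg.Agent.ExtCert.Cert

set_option autoImplicit false
set_option maxRecDepth 100000
set_option maxHeartbeats 4000000

namespace CfsgLib.ExtCert.M12Cover

def gensL : List (List ℕ) := [[3, 4, 5, 2, 1, 0, 10, 11, 9, 8, 7, 6, 15, 16, 17, 14, 13, 12, 22, 23, 21, 20, 19, 18], [0, 16, 2, 3, 13, 5, 19, 18, 9, 8, 23, 22, 12, 4, 14, 15, 1, 17, 7, 6, 21, 20, 11, 10], [0, 1, 2, 10, 9, 11, 7, 6, 8, 4, 3, 5, 12, 13, 14, 22, 21, 23, 19, 18, 20, 16, 15, 17], [12, 8, 14, 5, 21, 3, 18, 19, 1, 16, 11, 10, 0, 20, 2, 17, 9, 15, 6, 7, 13, 4, 23, 22], [6, 8, 7, 11, 9, 10, 2, 0, 1, 4, 3, 5, 18, 20, 19, 23, 21, 22, 14, 12, 13, 16, 15, 17], [2, 1, 0, 5, 4, 3, 7, 6, 8, 9, 11, 10, 14, 13, 12, 17, 16, 15, 19, 18, 20, 21, 23, 22],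 [0, 20, 2, 17, 9, 15, 6, 7, 13, 4, 23, 22, 12, 8, 14, 5, 21, 3, 18, 19, 1, 16, 11, 10]]

def relsL : List (List ℕ × List ℕ) := [([0, 0], [5]), ([1, 1], []), ([2, 2], []), ([3, 3], []), ([4, 4], [5]), ([5, 5], []), ([6, 6], []), ([1, 0], [0, 1]), ([2, 0], [0, 2, 4, 5]), ([3, 0], [0, 5, 6]), ([4, 0], [0, 4, 5]), ([5, 0], [0, 5]), ([6, 0], [0, 3, 5]), ([2, 1], [1, 2, 6]), ([3, 1], [1, 3]), ([4, 1], [1, 3, 4, 5, 6]), ([5, 1], [1, 5]), ([6, 1], [1, 6]), ([3, 2], [2, 3]), ([4, 2], [2, 4, 5]), ([5, 2], [2, 5]), ([6, 2], [2, 6]), ([4, 3], [3, 4]), ([5, 3], [3, 5]), ([6, 3], [3, 6]), ([5, 4], [4, 5]), ([6, 4], [4, 6]), ([6, 5], [5, 6])]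

def nfL : List (List ℕ) := (List.range 7).sublists

def consL : List (List ℕ × ℕ × ℕ) := [([6], 0, 1), ([6], 4, 1), ([6], 7, 1), ([6], 8, 1), ([6], 9, 1), ([6], 10, 1), ([6], 12, 1), ([6], 15, 1), ([5], 8, 1), ([4], 0, 1), ([4], 2, 1), ([4], 7, 1), ([2], 0, 1), ([2], 1, 1), ([2], 7, 1), ([2], 8, 1), ([2], 13, 1), ([0], 0, 1)]

def fusL : List Fus := [
  ⟨[22, 1, 17, 9, 19, 4, 2, 0, 6, 20, 11, 3, 10, 13, 5, 21, 7, 16, 14, 12, 18, 8, 23, 15], [[1, 3], [5], [1, 6]], [[5, 6], [2, 5], [3, 5]], [(([0, 0], []), 1)]⟩,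
  ⟨[22, 1, 17, 9, 19, 4, 2, 0, 6, 20, 11, 3, 10, 13, 5, 21, 7, 16, 14, 12, 18, 8, 23, 15], [[1, 3], [5], [1, 6]], [[5, 6], [2, 5], [3, 5]], [(([1, 1], []), 1)]⟩,
  ⟨[22, 1, 17, 9, 19, 4, 2, 0, 6, 20, 11, 3, 10, 13, 5, 21, 7, 16, 14, 12, 18, 8, 23, 15], [[1, 3], [5], [1, 6]], [[5, 6], [2, 5], [3, 5]], [(([1, 0], [0, 1]), 1)]⟩,
  ⟨[22, 1, 17, 9, 19, 4, 2, 0, 6, 20, 11, 3, 10, 13, 5, 21, 7, 16, 14, 12, 18, 8, 23, 15], [[1, 3], [5], [1, 6]], [[5, 6], [2, 5], [3, 5]], [(([2, 1], [1, 2]), 1)]⟩,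
  ⟨[3, 17, 16, 10, 2, 8, 9, 0, 6, 11, 1, 7, 15, 5, 4, 22, 14, 20, 21, 12, 18, 23, 13, 19], [[1, 3, 4], [0, 6], [3, 6]], [[0, 1, 3], [1, 3, 4, 6], [3, 6]], [(([0, 0], [2]), 1), (([1, 0], [0, 1, 2]), 1)]⟩,
  ⟨[3, 17, 16, 10, 2, 8, 9, 0, 6, 11, 1, 7, 15, 5, 4, 22, 14, 20, 21, 12, 18, 23, 13, 19], [[1, 3, 4], [0, 6], [3, 6]], [[0, 1, 3], [1, 3, 4, 6], [3, 6]], [(([1, 1], [2]), 1), (([1, 0], [0, 1, 2]), 1)]⟩]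

def kL : List Form := [
  [(5, 1), (9, 1), (11, 1), (12, 1)],
  [(27, 1)],
  [(14, 1), (16, 1), (17, 1)],
  [(18, 1), (20, 1), (21, 1), (22, 1), (23, 1), (25, 1)],
  [(23, 1), (27, 1)],
  [(22, 1), (23, 1), (25, 1), (26, 1)],
  [(3, 1), (5, 1), (6, 1), (23, 1)],
  [(24, 1), (27, 1)],
  [(25, 1)],
  [(5, 1), (11, 1), (25, 1)],
  [(5, 1), (20, 1)],
  [(5, 1), (9, 1), (11, 1), (12, 1), (16, 1), (22, 1), (23, 1), (24, 1), (25, 1), (26, 1)],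
  [(4, 1), (10, 1), (11, 1), (20, 1), (25, 1)],
  [(6, 1), (17, 1)],
  [(6, 1), (12, 1), (15, 1), (16, 1), (22, 1), (23, 1), (24, 1), (26, 1), (27, 1)],
  [(4, 1), (19, 1), (20, 1)],
  [(6, 1), (21, 1)],
  [(11, 1)],
  [(1, 1), (3, 1), (5, 1), (6, 1), (14, 1), (27, 1)],
  [(2, 1), (20, 1)],
  [(16, 1), (20, 1), (21, 1), (23, 1), (27, 1)],
  [(16, 1), (18, 1), (20, 1), (23, 1), (27, 1)],
  [(0, 1), (3, 1), (4, 1), (5, 1), (6, 1), (7, 1), (9, 1), (12, 1), (14, 1), (17, 1), (22, 1), (23, 1), (24, 1), (25, 1)],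
  [(0, 1), (1, 1), (3, 1), (4, 1), (5, 1), (14, 1), (16, 1), (17, 1), (22, 1), (24, 1), (25, 1), (26, 1)]]

def coefL : List (List (ℕ × Form)) := [
  [],
  [],
  [],
  [(0, [(13, 1), (15, 1), (19, 1)])],
  [(0, [(8, 1), (19, 1)])],
  [(0, [(19, 1)])],
  [(0, [(13, 1)])]]

def selsL : List (List (List ℕ)) := [
  [[0, 4, 8, 9, 10, 11, 13, 15, 17, 18, 23]],
  [[2, 6, 8, 9, 10, 13, 16, 17, 18, 20]],
  [[8, 9, 10, 17, 19]],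
  [[0, 5, 6, 7, 10, 11, 16, 20]],
  [[8, 9, 10, 15, 17]],
  [[8, 9, 17]],
  [[0, 1, 4, 5, 7, 8, 9, 10, 11, 16, 17, 20]],
  [[0, 1, 2, 3, 5, 6, 10, 13, 17, 18, 20, 21, 22, 23]],
  [[]],
  [[0, 4, 5, 7, 8, 10, 14, 16, 17, 20]],
  [[8, 12, 15, 17]],
  [[17]],
  [[4, 5, 7, 9, 10, 14, 16, 17, 20]],
  [[]],
  [[2, 4, 8, 9, 10, 13, 16, 17, 20]],
  [[]],
  [[0, 1, 5, 7, 11]],
  [[0, 1, 4, 5, 7, 8, 9, 10, 11, 13, 16, 17, 20]],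
  [[0, 1, 4, 5, 7, 8, 9, 10, 11, 17, 21]],
  [[]],
  [[8, 9, 10, 17]],
  [[0, 1, 4, 5, 7, 8, 9, 10, 11, 17, 20]],
  [[1, 3, 4, 9, 10, 17, 20, 21]],
  [[1, 4]],
  [[1, 7]],
  [[8]],
  [[3, 5, 8, 9, 10, 17, 20, 21]],
  [[1]]]

/-- The certificate. -/
def data : Data := ⟨gensL, relsL, nfL, consL, fusL, kL, coefL, selsL⟩

/-- A Sylow 3-subgroup and two elements normalising it. -/
def threeL : List (List ℕ) := [[8, 10, 2, 17, 3, 16, 1, 7, 11, 9, 6, 0, 20, 22, 14, 5, 15, 4, 13, 19, 23, 21, 18, 12], [0, 1, 21, 18, 20, 5, 11, 14, 10, 7, 16, 15, 12, 13, 9, 6, 8, 17, 23, 2, 22, 19, 4, 3], [0, 5, 2, 22, 18, 1, 16, 7, 11, 9, 15, 8, 12, 17, 14, 10, 6, 13, 4, 19, 23, 21, 3, 20], [0, 5, 2, 18, 22, 1, 15, 9, 8, 7, 16, 11, 12, 17, 14, 6, 10, 13, 3, 21, 20, 19, 4, 23]]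

/-- Two elements whose commutator is minus one. -/
def comL : List ℕ × List ℕ := ([11, 18, 7, 16, 20, 14, 9, 13, 0, 5, 15, 10, 23, 6, 19, 4, 8, 2, 21, 1, 12, 17, 3, 22], [1, 16, 10, 17, 2, 11, 8, 3, 7, 12, 21, 6, 13, 4, 22, 5, 14, 23, 20, 15, 19, 0, 9, 18])

end CfsgLib.ExtCert.M12Cover
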