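/-
Certificates for the multiplier of M11: the 2-part and the 3-elements.
-/
import Cfsg.Agent.ExtCert.Cert

set_option autoImplicit false
set_option maxRecDepth 100000
set_option maxHeartbeats 4000000

namespace CfsgLib.ExtCert.TrivM11

def gensL : List (List ℕ) := [[0, 4, 2, 16, 3, 21, 6, 11, 13, 9, 14, 15, 18, 12, 19, 22, 1, 20, 8, 23, 17, 5, 7, 10], [0, 1, 2, 3, 12, 5, 9, 10, 16, 6, 7, 22, 4, 18, 14, 19, 8, 17, 13, 15, 21, 20, 11, 23], [0, 13, 2, 18, 8, 17, 6, 10, 16, 9, 15, 23, 4, 3, 11, 19, 12, 5, 1, 7, 21, 20, 14, 22], [0, 3, 2, 1, 16, 5, 6, 15, 12, 9, 19, 22, 8, 18, 23, 7, 4, 17, 13, 10, 20, 21, 11, 14]]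

def relsL : List (List ℕ × List ℕ) := [([0, 0], [3]), ([1, 1], []), ([2, 2], [3]), ([3, 3], []), ([1, 0], [0, 1, 2, 3]), ([2, 0], [0, 2, 3]), ([3, 0], [0, 3]), ([2, 1], [1, 2, 3]), ([3, 1], [1, 3]), ([3, 2], [2, 3])]

def nfL : List (List ℕ) := (List.range 4).sublists

def consL : List (List ℕ × ℕ × ℕ) := [([0], 0, 1), ([1], 0, 1), ([1], 4, 1), ([2], 0, 1), ([2], 1, 1), ([2], 2, 1)]

def fusL : List Fus := [
  ⟨[0, 6, 2, 9, 12, 5, 18, 19, 4, 13, 10, 14, 8, 3, 21, 7, 16, 17, 1, 15, 22, 11, 23, 20], [[1, 3], [1]], [[1], [3]], [(([1, 1], []), 1)]⟩,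
  ⟨[0, 16, 6, 4, 8, 17, 2, 19, 13, 9, 23, 15, 18, 1, 11, 10, 12, 20, 3, 14, 21, 5, 7, 22], [[0, 2, 3], [0], [3]], [[0, 2, 3], [2, 3], [3]], [(([1, 1], [2]), 1), (([1, 0], [0, 1, 2]), 1)]⟩]

def kL : List Form := [[(6, 1)], [(2, 1), (5, 1), (6, 1), (8, 1), (9, 1)], [(2, 1), (7, 1), (8, 1)], [(3, 1), (6, 1), (9, 1)], [(3, 1), (8, 1)], [(9, 1)], [(1, 1), (3, 1)], [(0, 1), (2, 1)]]

def coefL : List (List (ℕ × Form)) := [[], [], [(0, [(4, 1), (7, 1)])], [(0, [(7, 1)])]]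

def selsL : List (List (List ℕ)) := [[[0, 2, 3, 4, 5, 7]], [[0, 3, 5, 6]], [[0, 2, 3, 4, 5]], [[0, 3, 5]], [[]], [[0, 1, 2, 5]], [[0]], [[]], [[0, 3, 4, 5]], [[5]]]

/-- The certificate. -/
def data : Data := ⟨gensL, relsL, nfL, consL, fusL, kL, coefL, selsL⟩

/-- Generators of a Sylow 3-subgroup and two elements normalising it. -/
def threeL : List (List ℕ) := [[0, 18, 8, 3, 16, 23, 1, 10, 13, 4, 21, 17, 12, 2, 14, 11, 9, 15, 6, 19, 5, 7, 22, 20], [0, 9, 6, 3, 13, 5, 16, 21, 1, 8, 7, 17, 12, 18, 19, 11, 2, 15, 4, 22, 20, 10, 14, 23], [0, 1, 4, 3, 2, 20, 18, 10, 9, 8, 7, 17, 12, 16, 19, 15, 13, 11, 6, 14, 5, 21, 22, 23], [0, 4, 1, 12, 2, 22, 18, 10, 9, 16, 7, 15, 3, 8, 5, 17, 6, 11, 13, 23, 19, 21, 20, 14]]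

end CfsgLib.ExtCert.TrivM11
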