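/-
The multiplier of M11 is trivial.
-/
import Cfsg.Agent.ExtCert.TrivModule
import Cfsg.Agent.ExtCert.TrivM11Data
import Cfsg.Agent.Multiplier.ThreePerm
import Cfsg.Agent.Golay.M11Fusion

set_option autoImplicit false
set_option maxRecDepth 100000

namespace CfsgLib.ExtCert.TrivM11

open Cfsg CfsgLib.Golay CfsgLib.Golay.Cert CfsgLib.Multiplier
open scoped Pointwise

theorem rels_ok : data.relsOK = true := by decide +kernel

theorem k_ok : data.kOK trivModule = true := by decide +kernel

theorem fus_ok : data.fusOK = true := by decide +kernel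

theorem idents_ok : data.identsOK trivModule = true := by decide +kernel

theorem nf_ok : data.nfIncOK = true := by decide +kernel

theorem nf_length : data.NF.length = 16 := by decide +kernel

theorem gen_ok : ∀ L ∈ data.L ++ data.fus.map (·.G) ++ threeL, genOK L = true ∧ permMask L squareMask 24 = squareMask ∧ L.getD 0 0 = 0 := by decide +kernel

theorem three_ok : nineT threeL = true := by decide +kernel

theorem mem_M11 {L : List ℕ} (h : L ∈ data.L ++ data.fus.map (·.G) ++ threeL) :
    ∃ s ∈ Spor.M11, toList s = L := by
  obtain ⟨hg, hd, hfix⟩ := gen_ok L h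
  obtain ⟨g, rfl⟩ := genOK_spec hg
  refine ⟨g.1, ⟨⟨g.2, ?_⟩, ?_⟩, rfl⟩
  · show g.1 • Spor.squareDodecad = Spor.squareDodecad
    rw [squareDodecad_eq]
    conv_rhs => rw [← hd, pts_permMask]
    ext q
    simp [Finset.mem_smul_finset, Finset.mem_image]
  · exact idx_injective ((toList_getD_idx g.1 (some 0)).symm.trans hfix)

/-- The multiplier of M₁₁ is trivial. -/
theorem multiplier : Cfsg.HasCyclicSchurMultiplier ↥Spor.M11 1 := by
  have hcard := CfsgLib.Golay.card_M11
  refine hasTrivial_of_noStem ↥Spor.M11 fun p hp => ?_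
  by_cases h2 : p = 2
  · subst h2
    exact noStem_two data (fun L hL => mem_M11 (List.mem_append_left _ hL)) rels_ok k_ok fus_ok idents_ok
      (Data.nfGood_of_inc _ nf_ok) fun d hd => by rw [nf_length, hcard] at hd; omega
  by_cases h3 : p = 3
  · subst h3
    exact noStem_nine_perm threeL (fun L hL => mem_M11 (List.mem_append_right _ hL)) three_ok
      fun d hd => by rw [hcard] at hd; omega
  exact noStem_large (a := 4) (b := 2) (M := 55) (by rw [hcard]; norm_num) (by norm_num)
    (by decide +kernel) hp h2 h3

end CfsgLib.ExtCert.TrivM11
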