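/-
Certificates for the multiplier of M23: the 2-part and the 3-elements.
-/
import Cfsg.Agent.ExtCert.Cert

set_option autoImplicit false
set_option maxRecDepth 100000
set_option maxHeartbeats 4000000

namespace CfsgLib.ExtCert.TrivM23

def gensL : List (List ℕ) := [[0, 3, 2, 1, 4, 5, 6, 12, 13, 22, 10, 11, 7, 8, 17, 18, 21, 14, 15, 20, 19, 16, 9, 23], [0, 1, 10, 8, 11, 6, 5, 16, 15, 21, 4, 2, 9, 7, 3, 14, 17, 13, 20, 12, 18, 19, 22, 23], [0, 1, 2, 21, 4, 6, 5, 17, 9, 8, 11, 10, 15, 13, 19, 12, 16, 7, 20, 14, 18, 3, 22, 23], [0, 13, 2, 8, 4, 5, 6, 18, 3, 21, 10, 11, 15, 1, 19, 12, 22, 20, 7, 14, 17, 9, 16, 23], [0, 7, 2, 12, 4, 5, 6, 1, 15, 14, 10, 11, 3, 18, 9, 8, 20, 22, 13, 21, 16, 19, 17, 23], [0, 1, 4, 15, 2, 5, 6, 17, 14, 19, 11, 10, 21, 16, 8, 3, 13, 7, 18, 9, 20, 12, 22, 23], [0, 22, 2, 9, 4,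 5, 6, 17, 21, 3, 10, 11, 14, 16, 12, 19, 13, 7, 20, 15, 18, 8, 1, 23]]

def relsL : List (List ℕ × List ℕ) := [([0, 0], []), ([1, 1], [5]), ([2, 2], []), ([3, 3], []), ([4, 4], []), ([5, 5], []), ([6, 6], []), ([1, 0], [0, 1, 4, 6]), ([2, 0], [0, 2, 3, 6]), ([3, 0], [0, 3]), ([4, 0], [0, 4]), ([5, 0], [0, 3, 4, 5]), ([6, 0], [0, 6]), ([2, 1], [1, 2, 5]), ([3, 1], [1, 4, 6]), ([4, 1], [1, 3]), ([5, 1], [1, 5]), ([6, 1], [1, 6]), ([3, 2], [2, 3]), ([4, 2], [2, 4, 6]), ([5, 2], [2, 5]), ([6, 2], [2, 6]), ([4, 3], [3, 4]), ([5, 3], [3, 5, 6]), ([6, 3], [3, 6]), ([5, 4], [4, 5, 6]), ([6, 4], [4, 6]), ([6, 5], [5, 6])]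

def nfL : List (List ℕ) := (List.range 7).sublists

def consL : List (List ℕ × ℕ × ℕ) := [([1], 0, 1), ([1], 1, 1), ([1], 7, 1), ([2], 0, 1), ([2], 1, 1), ([2], 7, 1), ([2], 8, 1), ([3], 1, 1), ([3], 7, 1), ([3], 8, 1), ([3], 13, 1), ([3], 14, 1), ([4], 1, 1), ([4], 2, 1), ([4], 7, 1), ([4], 8, 1), ([4], 15, 1), ([5], 8, 1)]

def fusL : List Fus := [
  ⟨[6, 9, 2, 16, 0, 5, 11, 15, 3, 20, 4, 10, 7, 13, 1, 19, 18, 8, 17, 21, 22, 12, 14, 23], [[0, 6], [0, 3], [4], [0]], [[0, 3, 4], [6], [3, 4, 6], [0, 3]], [(([1, 1], []), 1)]⟩,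
  ⟨[6, 9, 2, 16, 0, 5, 11, 15, 3, 20, 4, 10, 7, 13, 1, 19, 18, 8, 17, 21, 22, 12, 14, 23], [[0, 6], [0, 3], [4], [0]], [[0, 3, 4], [6], [3, 4, 6], [0, 3]], [(([2, 2], []), 1)]⟩,
  ⟨[5, 19, 10, 20, 11, 4, 2, 9, 8, 1, 0, 6, 22, 13, 18, 12, 17, 15, 7, 21, 16, 14, 3, 23], [[0, 3], [0], [2, 5], [4, 6], [4]], [[4, 6], [0], [3, 4, 5], [6], [3, 4]], [(([2, 2], []), 1)]⟩,
  ⟨[5, 22, 11, 8, 4, 0, 6, 17, 19, 12, 10, 2, 15, 7, 3, 21, 13, 16, 1, 14, 18, 9, 20, 23], [[4], [0], [1, 2], [5], [3, 4, 6], [3, 4]], [[4], [0, 3, 6], [5], [1, 2], [3, 4, 6], [6]], [(([2, 2], []), 1)]⟩,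
  ⟨[5, 22, 11, 8, 4, 0, 6, 17, 19, 12, 10, 2, 15, 7, 3, 21, 13, 16, 1, 14, 18, 9, 20, 23], [[4], [0], [1, 2], [5], [3, 4, 6], [3, 4]], [[4], [0, 3, 6], [5], [1, 2], [3, 4, 6], [6]], [(([2, 0], [0, 2, 5]), 1), (([3, 1], [1, 3, 5]), 1)]⟩,
  ⟨[22, 10, 0, 9, 1, 6, 20, 12, 14, 19, 18, 5, 13, 7, 16, 2, 17, 21, 15, 4, 3, 8, 11, 23], [[0, 3, 4, 6], [0, 3, 4]], [[1, 2, 5], [1, 2]], [(([0, 0], []), 1)]⟩]

def kL : List Form := [[(4, 1), (6, 1), (10, 1), (12, 1), (26, 1)], [(16, 1)], [(11, 1), (15, 1), (17, 1), (23, 1), (25, 1)], [(3, 1), (6, 1), (9, 1), (12, 1), (24, 1)], [(5, 1), (16, 1), (20, 1)], [(3, 1), (6, 1), (11, 1), (14, 1), (17, 1), (19, 1), (21, 1), (24, 1), (27, 1)], [(3, 1), (6, 1), (18, 1), (21, 1), (24, 1)], [(6, 1), (14, 1), (15, 1), (17, 1), (23, 1)], [(9, 1), (10, 1), (12, 1)], [(24, 1)], [(18,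 1), (19, 1), (21, 1), (25, 1)], [(3, 1), (4, 1), (6, 1), (26, 1)], [(6, 1), (14, 1), (15, 1), (25, 1)], [(6, 1), (21, 1)], [(9, 1), (10, 1), (22, 1), (24, 1)], [(12, 1), (22, 1), (24, 1), (26, 1)], [(3, 1), (4, 1)], [(6, 1), (18, 1), (19, 1), (22, 1), (23, 1), (26, 1)], [(0, 1), (3, 1), (6, 1), (9, 1)], [(3, 1), (6, 1), (22, 1), (24, 1), (26, 1)], [(2, 1), (3, 1), (4, 1), (6, 1), (20, 1), (22, 1), (23, 1), (25, 1), (26, 1)], [(1, 1), (2, 1), (13, 1), (20, 1)], [(6, 1), (7, 1), (8, 1), (11, 1), (14, 1), (15, 1), (17, 1), (18, 1), (21, 1), (23, 1), (24, 1), (26, 1)], [(0, 1), (1, 1), (2, 1), (3, 1), (4, 1), (6, 1), (9, 1), (10, 1), (12, 1), (13, 1), (16, 1), (22, 1), (24, 1), (26, 1)]]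

def coefL : List (List (ℕ × Form)) := [[], [], [], [(0, [(8, 1), (25, 1)])], [(0, [(8, 1), (15, 1), (25, 1)])], [(0, [(13, 1)])], [(0, [(25, 1)])]]

def selsL : List (List (List ℕ)) := [[[0, 14, 15, 16, 18]], [[8, 10, 11, 13, 14, 15, 17, 20, 21]], [[1, 3, 8, 9, 10, 13, 15, 17, 18, 20, 21, 23]], [[0, 3, 8, 9, 11, 15, 19]], [[0, 3, 8, 9, 11, 15, 16, 19]], [[3, 4, 9, 11, 14, 18, 21, 23]], [[8, 11, 14, 15, 16]], [[0, 2, 3, 6, 8, 9, 12, 15, 16, 19, 22]], [[]], [[3, 9, 15, 19]], [[0, 8, 14, 16, 19]], [[2, 7, 12]], [[0, 3, 9, 14, 15, 16]], [[]], [[8, 11, 12, 14, 15, 16]], [[]], [[1]], [[0, 3, 7, 10, 12, 13, 14, 16, 17]], [[0, 3, 6, 8, 11, 13, 15, 19]], [[0, 3, 6, 10, 14, 16, 19]], [[1, 3, 9, 11, 14, 18, 21, 23]], [[8, 11, 13, 14, 15, 16]], [[0, 3, 8, 15, 16]], [[0, 3, 10, 13, 14, 16, 17]], [[9]], [[]], [[8,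 14, 15]], [[0, 2, 3, 5, 6, 12, 14, 16, 17]]]

/-- The certificate. -/
def data : Data := ⟨gensL, relsL, nfL, consL, fusL, kL, coefL, selsL⟩

/-- Generators of a Sylow 3-subgroup and two elements normalising it. -/
def threeL : List (List ℕ) := [[4, 10, 5, 7, 8, 12, 19, 20, 0, 1, 9, 11, 2, 13, 14, 22, 16, 17, 6, 18, 3, 15, 21, 23], [2, 4, 9, 7, 5, 1, 6, 20, 12, 0, 8, 16, 10, 13, 14, 21, 17, 11, 18, 19, 3, 22, 15, 23], [8, 5, 10, 20, 4, 1, 19, 7, 0, 12, 2, 17, 9, 13, 14, 15, 16, 11, 18, 6, 3, 22, 21, 23], [12, 1, 2, 3, 10, 9, 16, 7, 8, 5, 4, 18, 0, 14, 13, 21, 6, 19, 11, 17, 20, 15, 22, 23]]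

end CfsgLib.ExtCert.TrivM23
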